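import Groth.Agent.Vancyc.H517.Bdry
import Groth.Agent.CohqB.ProjBC
import Groth.Agent.CalgA.TwoGlue

/-!
# Base change of projective hypersurfaces

For `φ : A →+* B` and `q : CohB1.polyGrading n A d`:

* `isPushout_quot`: `B[x]/(φ F)` is the pushout of `B` and `A[x]/(F)`;
* `mapForm φ q`, `bc φ q : Hyp (mapForm φ q) ⟶ Hyp q`, `chartH_bc`, `isPullback_bc`;
* `nsOpen_le_bc`: the nonsingular open of `mapForm φ q` is contained in the preimage of that of `q`.
-/

set_option autoImplicit false

open CategoryTheory CategoryTheory.Limits AlgebraicGeometry MvPolynomial HomogeneousLocalization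
open Groth.Agent.Sga5.ProjChart Groth.Agent.Sga5.ProjSmooth Groth.Agent.Sga5.ProjHyper Groth.Agent.Sga5.ProjSurj
open Groth.Agent.Lefpen.H713.HypProj Groth.Agent.Vancyc.H517.HypJac
open Groth.Agent.Lefpen.H713.GrQuot

universe u

namespace Groth.Agent.Vancyc.H517.HypBC

section Push

variable {A B : Type u} [CommRing A] [CommRing B] (φ : A →+* B) {σ : Type} (F : MvPolynomial σ A)
  (G : MvPolynomial σ B) (hG : MvPolynomial.map φ F = G)

/-- base change of the quotient of a polynomial ring by one equation -/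
noncomputable def quotMap : MvPolynomial σ A ⧸ Ideal.span {F} →+* MvPolynomial σ B ⧸ Ideal.span {G} :=
  Ideal.quotientMap _ (MvPolynomial.map φ) (by
    rw [Ideal.span_singleton_le_iff_mem, Ideal.mem_comap, hG]
    exact Ideal.mem_span_singleton_self _)

theorem quotMap_mk (p : MvPolynomial σ A) :
    quotMap φ F G hG (Ideal.Quotient.mk _ p) = Ideal.Quotient.mk _ (MvPolynomial.map φ p) := rfl

theorem quotMap_comp : (quotMap φ F G hG).comp (algebraMap A _) = (algebraMap B _).comp φ := by
  ext r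
  change quotMap φ F G hG (Ideal.Quotient.mk _ (C r)) = Ideal.Quotient.mk _ (C (φ r))
  rw [quotMap_mk, map_C]

variable {φ F G} {T : Type*} [CommRing T] {a : B →+* T} {b : MvPolynomial σ A ⧸ Ideal.span {F} →+* T}

include hG in
theorem eval_desc (h : a.comp φ = b.comp (algebraMap A _)) :
    eval₂Hom a (fun i => b (Ideal.Quotient.mk _ (X i))) G = 0 := by
  have h4 : eval₂Hom (a.comp φ) (fun i => b (Ideal.Quotient.mk _ (X i))) =
      b.comp (Ideal.Quotient.mk (Ideal.span {F})) := by
    apply MvPolynomial.ringHom_ext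
    · intro c
      rw [coe_eval₂Hom, eval₂_C]
      exact congrArg (fun t => t c) h
    · intro i
      rw [coe_eval₂Hom, eval₂_X]
      rfl
  rw [← hG, coe_eval₂Hom, eval₂_map]
  refine (congrArg (fun t => t F) h4).trans ?_
  change b (Ideal.Quotient.mk _ F) = 0
  rw [Ideal.Quotient.eq_zero_iff_mem.mpr (Ideal.mem_span_singleton_self F), map_zero]

/-- the universal property -/
noncomputable def desc (h : a.comp φ = b.comp (algebraMap A _)) : MvPolynomial σ B ⧸ Ideal.span {G} →+* T :=
  Ideal.Quotient.lift _ (eval₂Hom a (fun i => b (Ideal.Quotient.mk _ (X i)))) (fun x hx => by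
    obtain ⟨y, rfl⟩ := Ideal.mem_span_singleton.mp hx
    rw [map_mul, eval_desc hG h, zero_mul])

theorem desc_mk (h : a.comp φ = b.comp (algebraMap A _)) (r : MvPolynomial σ B) :
    desc hG h (Ideal.Quotient.mk _ r) = eval₂ a (fun i => b (Ideal.Quotient.mk _ (X i))) r := rfl

theorem desc_inl (h : a.comp φ = b.comp (algebraMap A _)) : (desc hG h).comp (algebraMap B _) = a := by
  ext r
  exact (desc_mk hG h (C r)).trans (eval₂_C _ _ _)

theorem desc_inr (h : a.comp φ = b.comp (algebraMap A _)) : (desc hG h).comp (quotMap φ F G hG) = b := by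
  apply Ideal.Quotient.ringHom_ext
  apply MvPolynomial.ringHom_ext
  · intro c
    refine (desc_mk hG h (MvPolynomial.map φ (C c))).trans ?_
    rw [map_C, eval₂_C]
    exact congrArg (fun t => t c) h
  · intro i
    refine (desc_mk hG h (MvPolynomial.map φ (X i))).trans ?_
    rw [map_X, eval₂_X]
    rfl

theorem quot_hom_ext {s t : MvPolynomial σ B ⧸ Ideal.span {G} →+* T}
    (h1 : s.comp (algebraMap B _) = t.comp (algebraMap B _))
    (h2 : s.comp (quotMap φ F G hG) = t.comp (quotMap φ F G hG)) : s = t := by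
  apply Ideal.Quotient.ringHom_ext
  apply MvPolynomial.ringHom_ext
  · intro r
    exact congrArg (fun u => u r) h1
  · intro i
    have := congrArg (fun u => u (Ideal.Quotient.mk _ (X i))) h2
    simp only [RingHom.comp_apply, quotMap_mk, map_X] at this
    exact this

theorem isPushout_quot {φ : A →+* B} {F : MvPolynomial σ A} {G : MvPolynomial σ B}
    (hG : MvPolynomial.map φ F = G) :
    IsPushout (CommRingCat.ofHom φ) (CommRingCat.ofHom (algebraMap A (MvPolynomial σ A ⧸ Ideal.span {F})))
      (CommRingCat.ofHom (algebraMap B (MvPolynomial σ B ⧸ Ideal.span {G})))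
      (CommRingCat.ofHom (quotMap φ F G hG)) := by
  refine ⟨⟨?_⟩, ⟨PushoutCocone.IsColimit.mk _
    (fun s => CommRingCat.ofHom (desc hG (congrArg CommRingCat.Hom.hom s.condition)))
    (fun s => ?_) (fun s => ?_) (fun s q h1 h2 => ?_)⟩⟩
  · rw [← CommRingCat.ofHom_comp, ← CommRingCat.ofHom_comp, quotMap_comp]
  · exact CommRingCat.hom_ext (desc_inl hG (congrArg CommRingCat.Hom.hom s.condition))
  · exact CommRingCat.hom_ext (desc_inr hG (congrArg CommRingCat.Hom.hom s.condition))
  · apply CommRingCat.hom_ext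
    apply quot_hom_ext hG
    · exact (congrArg CommRingCat.Hom.hom h1).trans
        (desc_inl hG (congrArg CommRingCat.Hom.hom s.condition)).symm
    · exact (congrArg CommRingCat.Hom.hom h2).trans
        (desc_inr hG (congrArg CommRingCat.Hom.hom s.condition)).symm

theorem isPullback_quot {φ : A →+* B} {F : MvPolynomial σ A} {G : MvPolynomial σ B}
    (hG : MvPolynomial.map φ F = G) :
    IsPullback (Spec.map (CommRingCat.ofHom (quotMap φ F G hG)))
      (Spec.map (CommRingCat.ofHom (algebraMap B (MvPolynomial σ B ⧸ Ideal.span {G}))))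
      (Spec.map (CommRingCat.ofHom (algebraMap A (MvPolynomial σ A ⧸ Ideal.span {F}))))
      (Spec.map (CommRingCat.ofHom φ)) :=
  isPullback_SpecMap_of_isPushout _ _ _ _ (isPushout_quot hG).flip

end Push

section BC

variable {A B : Type u} [CommRing A] [CommRing B] (φ : A →+* B) {n d : ℕ} (q : ↥(CohB1.polyGrading n A d))

/-- base change of a form -/
noncomputable def mapForm : ↥(CohB1.polyGrading n B d) := ⟨MvPolynomial.map φ q.1, IsHomogeneous.map q.2 φ⟩

/-- the map of homogeneous coordinate rings -/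
noncomputable def mapQ : CR q →+* CR (mapForm φ q) :=
  Ideal.quotientMap _ (MvPolynomial.map φ) (by
    rw [Ideal.span_singleton_le_iff_mem]
    exact Ideal.mem_span_singleton_self _)

theorem mapQ_mk (a : MvPolynomial (Fin (n + 1)) A) :
    mapQ φ q (Ideal.Quotient.mk _ a) = Ideal.Quotient.mk _ (MvPolynomial.map φ a) := rfl

/-- the map of homogeneous coordinate rings, graded -/
noncomputable def mapG : gr q →+*ᵍ gr (mapForm φ q) where
  toRingHom := mapQ φ q
  map_mem := by
    rintro i _ ⟨a, ha, rfl⟩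
    exact ⟨MvPolynomial.map φ a, IsHomogeneous.map ha φ, rfl⟩

theorem mapG_apply (a : CR q) : mapG φ q a = mapQ φ q a := rfl

theorem mapG_prG (a : MvPolynomial (Fin (n + 1)) A) :
    mapG φ q (prG q a) = prG (mapForm φ q) (MvPolynomial.map φ a) := rfl

theorem mapG_prG_X (i : Fin (n + 1)) : mapG φ q (prG q (X i)) = prG (mapForm φ q) (X i) := by
  rw [mapG_prG, map_X]

theorem irrelevant_le_mapG : HomogeneousIdeal.irrelevant (gr (mapForm φ q)) ≤
    (HomogeneousIdeal.irrelevant (gr q)).map (mapG φ q) := by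
  apply (HomogeneousIdeal.irrelevant_le _).mpr
  rintro i hi _ ⟨x, hx, rfl⟩
  have h1 := Groth.Agent.CohqB.ProjBC.mem_span_X_of_pos n hi x hx
  have h2 : Ideal.span (Set.range (X : Fin (n + 1) → MvPolynomial (Fin (n + 1)) B)) ≤
      (((HomogeneousIdeal.irrelevant (gr q)).map (mapG φ q)).toIdeal).comap
        (Ideal.Quotient.mk (Ideal.span {(mapForm φ q).1})) := by
    rw [Ideal.span_le]
    rintro _ ⟨j, rfl⟩
    change prG (mapForm φ q) (X j) ∈ ((HomogeneousIdeal.irrelevant (gr q)).map (mapG φ q)).toIdeal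
    rw [← mapG_prG_X]
    apply Ideal.mem_map_of_mem
    exact HomogeneousIdeal.mem_irrelevant_of_mem _ one_pos ((prG q).2 (X_mem n A j))
  exact h2 h1

/-- the base change morphism -/
noncomputable def bc : Hyp (mapForm φ q) ⟶ Hyp q := Proj.map (mapG φ q) (irrelevant_le_mapG φ q)

theorem dehom_map (i : Fin (n + 1)) (p : MvPolynomial (Fin (n + 1)) A) :
    MvPolynomial.map φ (dehom n A i p) = dehom n B i (MvPolynomial.map φ p) := by
  induction p using MvPolynomial.induction_on with
  | C a => simp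
  | add p q hp hq => simp [hp, hq]
  | mul_X p j hp =>
    rw [map_mul, map_mul, map_mul, map_mul, hp, map_X]
    congr 1
    obtain rfl | ⟨j, rfl⟩ := Fin.eq_self_or_eq_succAbove i j
    · rw [dehom_X_self, dehom_X_self, map_one]
    · rw [dehom_X, dehom_X, map_X]

/-- the map of chart rings -/
noncomputable def chQ (i : Fin (n + 1)) : ChR q i →+* ChR (mapForm φ q) i :=
  quotMap φ (dehom n A i q.1) (dehom n B i (mapForm φ q).1) (dehom_map φ i q.1)

theorem chQ_mk (i : Fin (n + 1)) (p : MvPolynomial (Fin n) A) :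
    chQ φ q i (Ideal.Quotient.mk _ p) = Ideal.Quotient.mk _ (MvPolynomial.map φ p) := rfl

theorem awayMapTo_toAway (i : Fin (n + 1)) {e : ℕ} (a : MvPolynomial (Fin (n + 1)) A)
    (ha : a ∈ CohB1.polyGrading n A (e • 1)) :
    awayMapTo (mapG φ q) (mapG_prG_X φ q i) (toAway q i (dehom n A i a)) =
      toAway (mapForm φ q) i (dehom n B i (MvPolynomial.map φ a)) := by
  rw [toAway_dehom q i a ha, toAway_dehom (mapForm φ q) i (MvPolynomial.map φ a) (IsHomogeneous.map ha φ),
    awayMapTo_mk (mapG φ q) (mapG_prG_X φ q i) ((prG q).2 (X_mem n A i)) ((prG (mapForm φ q)).2 (X_mem n B i))]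
  rfl

theorem awayMapTo_chEquiv (i : Fin (n + 1)) :
    (awayMapTo (mapG φ q) (mapG_prG_X φ q i)).comp (chEquiv q i : ChR q i →+* _) =
      (chEquiv (mapForm φ q) i : ChR (mapForm φ q) i →+* _).comp (chQ φ q i) := by
  apply Ideal.Quotient.ringHom_ext
  apply MvPolynomial.ringHom_ext
  · intro r
    have h := awayMapTo_toAway φ q i (e := 0) (C r) (by
      change (C r : MvPolynomial (Fin (n + 1)) A).IsHomogeneous (0 • 1)
      rw [zero_smul]; exact isHomogeneous_C _ r)
    rw [dehom_C, map_C, dehom_C] at h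
    change awayMapTo _ _ (toAway q i (C r)) = toAway (mapForm φ q) i (MvPolynomial.map φ (C r))
    rw [map_C]
    exact h
  · intro j
    have h := awayMapTo_toAway φ q i (e := 1) (X (i.succAbove j)) (by
      rw [one_smul]; exact X_mem n A _)
    rw [dehom_X, map_X, dehom_X] at h
    change awayMapTo _ _ (toAway q i (X j)) = toAway (mapForm φ q) i (MvPolynomial.map φ (X j))
    rw [map_X]
    exact h

@[reassoc]
theorem chartH_bc (i : Fin (n + 1)) :
    chartH (mapForm φ q) i ≫ bc φ q = Spec.map (CommRingCat.ofHom (chQ φ q i)) ≫ chartH q i := by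
  have h1 := awayι_comp_map' (mapG φ q) (irrelevant_le_mapG φ q) Nat.one_pos ((prG q).2 (X_mem n A i))
    (mapG_prG_X φ q i) ((prG (mapForm φ q)).2 (X_mem n B i))
  rw [chartH, chartH, bc, Category.assoc]
  refine (congrArg (fun t => Spec.map (CommRingCat.ofHom (chEquiv (mapForm φ q) i).symm.toRingHom) ≫ t) h1).trans ?_
  rw [← Category.assoc, ← Category.assoc, ← Spec.map_comp, ← Spec.map_comp]
  congr 2
  apply CommRingCat.hom_ext
  apply RingHom.ext
  intro x
  obtain ⟨p, rfl⟩ := (chEquiv q i).surjective x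
  have h2 := congrArg (fun g => g p) (awayMapTo_chEquiv φ q i)
  change (chEquiv (mapForm φ q) i).symm (awayMapTo (mapG φ q) (mapG_prG_X φ q i) (chEquiv q i p)) =
    chQ φ q i ((chEquiv q i).symm (chEquiv q i p))
  change awayMapTo (mapG φ q) (mapG_prG_X φ q i) (chEquiv q i p) = chEquiv (mapForm φ q) i (chQ φ q i p) at h2
  rw [h2, RingEquiv.symm_apply_apply, RingEquiv.symm_apply_apply]

theorem bc_preimage (i : Fin (n + 1)) :
    bc φ q ⁻¹ᵁ (chartH q i).opensRange = (chartH (mapForm φ q) i).opensRange := by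
  rw [opensRange_chartH, opensRange_chartH]
  refine (Proj.map_preimage_basicOpen (mapG φ q) (irrelevant_le_mapG φ q) (prG q (X i))).trans ?_
  rw [mapG_prG_X]

theorem isPullback_chartH_bc (i : Fin (n + 1)) :
    IsPullback (chartH (mapForm φ q) i) (Spec.map (CommRingCat.ofHom (chQ φ q i))) (bc φ q) (chartH q i) := by
  apply IsPullback.flip
  apply IsOpenImmersion.isPullback
  · exact chartH_bc φ q i
  · exact bc_preimage φ q i

theorem bc_toSpec : bc φ q ≫ toSpec q = toSpec (mapForm φ q) ≫ Spec.map (CommRingCat.ofHom φ) := by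
  refine Scheme.Cover.hom_ext (chartCover (mapForm φ q)) _ _ (fun i => ?_)
  change chartH (mapForm φ q) i ≫ _ = chartH (mapForm φ q) i ≫ _
  rw [chartH_bc_assoc, chartH_toSpec, chartH_toSpec_assoc, ← Spec.map_comp, ← Spec.map_comp,
    ← CommRingCat.ofHom_comp, ← CommRingCat.ofHom_comp]
  congr 2
  exact quotMap_comp φ _ _ (dehom_map φ i q.1)

theorem isPullback_bc : IsPullback (bc φ q) (toSpec (mapForm φ q)) (toSpec q) (Spec.map (CommRingCat.ofHom φ)) := by
  refine Groth.Agent.CalgA.TwoGlue.isPullback_of_cover (bc_toSpec φ q) (chartCover q)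
    (fun i => Spec (CommRingCat.of (ChR (mapForm φ q) i))) (fun i => chartH (mapForm φ q) i)
    (fun i => Spec.map (CommRingCat.ofHom (chQ φ q i))) (fun i => isPullback_chartH_bc φ q i) (fun i => ?_)
  change IsPullback _ (chartH (mapForm φ q) i ≫ toSpec (mapForm φ q)) (chartH q i ≫ toSpec q) _
  rw [chartH_toSpec, chartH_toSpec]
  exact isPullback_quot (dehom_map φ i q.1)

end BC

section Ns

variable {A B : Type u} [CommRing A] [CommRing B] (φ : A →+* B) {n d : ℕ} (q : ↥(CohB1.polyGrading (n + 1) A d))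

theorem nsOpen_le_bc : nsOpen (mapForm φ q) ≤ bc φ q ⁻¹ᵁ nsOpen q := by
  intro x hx
  obtain ⟨i, y, hy, rfl⟩ := TopologicalSpace.Opens.mem_iSup.mp hx
  change bc φ q (chartH (mapForm φ q) i y) ∈ nsOpen q
  rw [← Scheme.Hom.comp_apply, chartH_bc, Scheme.Hom.comp_apply]
  apply chartH_mem_nsOpen
  obtain ⟨j, hj⟩ := mem_affNs.mp hy
  rw [mem_affNs]
  refine ⟨j, fun h => hj ?_⟩
  have h1 : chQ φ q i (pd (dehom (n + 1) A i q.1) j) ∈ y.asIdeal := h
  rw [pd, chQ_mk, ← pderiv_map, dehom_map] at h1
  exact h1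

end Ns

end Groth.Agent.Vancyc.H517.HypBC
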