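import Groth.Agent.Vancyc.H517.HypBC
import Mathlib.Algebra.Order.Antidiag.Finsupp

/-!
# The universal family of nonsingular projective hypersurfaces

* `univForm m d`: the universal form of degree `d` in `m + 1` variables over `P m = ℤ[c_α]`;
* `mapForm_ev`: every form is a specialization of the universal form;
* `exists_family`: two forms `q`, `q'` over fields with `nsOpen = ⊤` are fibres of one proper smooth family over
  a connected base on which `ℓ` is invertible.
-/

set_option autoImplicit false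

open CategoryTheory CategoryTheory.Limits AlgebraicGeometry MvPolynomial
open Groth.Agent.Sga5.ProjChart Groth.Agent.Sga5.ProjSmooth
open Groth.Agent.Lefpen.H713.HypProj Groth.Agent.Vancyc.H517.HypJac Groth.Agent.Vancyc.H517.HypBC

universe u

namespace Groth.Agent.Vancyc.H517.Univ

section Form

variable (m d : ℕ)

/-- the ring of coefficients of the universal form -/
abbrev P : Type u := MvPolynomial (Fin (m + 1) →₀ ℕ) (ULift.{u} ℤ)

/-- the exponents of degree `d` -/
noncomputable def S : Finset (Fin (m + 1) →₀ ℕ) := Finset.finsuppAntidiag Finset.univ d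

theorem mem_S {a : Fin (m + 1) →₀ ℕ} : a ∈ S m d ↔ ∑ i, a i = d := by
  rw [S, Finset.mem_finsuppAntidiag]
  exact ⟨fun h => h.1, fun h => ⟨h, Finset.subset_univ _⟩⟩

/-- the universal form -/
noncomputable def univPoly : MvPolynomial (Fin (m + 1)) (P.{u} m) := ∑ a ∈ S m d, monomial a (X a)

theorem univPoly_isHomogeneous : (univPoly.{u} m d).IsHomogeneous d := by
  apply IsHomogeneous.sum
  intro a ha
  apply isHomogeneous_monomial
  rw [Finsupp.degree_eq_sum]
  exact (mem_S m d).mp ha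

/-- the universal form -/
noncomputable def univForm : ↥(CohB1.polyGrading m (P.{u} m) d) := ⟨univPoly m d, univPoly_isHomogeneous m d⟩

variable {m}

/-- specialization of the coefficients -/
noncomputable def ev {Ω : Type*} [CommRing Ω] (q : MvPolynomial (Fin (m + 1)) Ω) : P.{u} m →+* Ω :=
  eval₂Hom ((Int.castRingHom Ω).comp ULift.ringEquiv.toRingHom) (fun a => coeff a q)

variable {d}

theorem map_ev {Ω : Type*} [CommRing Ω] (q : MvPolynomial (Fin (m + 1)) Ω) (hq : q.IsHomogeneous d) :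
    MvPolynomial.map (ev.{u} q) (univPoly m d) = q := by
  rw [univPoly, map_sum]
  have h1 : ∀ a, MvPolynomial.map (ev.{u} q) (monomial a (X a)) = monomial a (coeff a q) := fun a => by
    rw [map_monomial, ev, coe_eval₂Hom, eval₂_X]
  simp only [h1]
  conv_rhs => rw [q.as_sum]
  symm
  apply Finset.sum_subset
  · intro a ha
    rw [mem_S]
    have := hq (mem_support_iff.1 ha)
    rw [← this, Finsupp.weight_apply, Finsupp.sum_fintype _ _ (by simp)]
    simp
  · intro a _ ha
    rw [notMem_support_iff.mp ha, monomial_zero]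

theorem mapForm_ev {Ω : Type u} [CommRing Ω] (q : ↥(CohB1.polyGrading m Ω d)) :
    mapForm (ev.{u} q.1) (univForm m d) = q :=
  Subtype.ext (map_ev q.1 q.2)

end Form

section Restrict

/-- the restriction of a morphism over an open whose preimage is contained in an open on which it is smooth -/
theorem smooth_restrict {X Y : Scheme.{u}} (f : X ⟶ Y) (W : X.Opens) (hW : Smooth (W.ι ≫ f)) (U : Y.Opens)
    (hU : f ⁻¹ᵁ U ≤ W) : Smooth (f ∣_ U) := by
  have h1 : Smooth ((f ∣_ U) ≫ U.ι) := by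
    rw [morphismRestrict_ι, ← Scheme.homOfLE_ι _ hU, Category.assoc]
    exact IsZariskiLocalAtSource.comp (P := @Smooth) hW _
  exact MorphismProperty.of_postcomp (W := @Smooth) (W' := @IsOpenImmersion) (f ∣_ U) U.ι inferInstance h1

end Restrict

section Family

variable (n d ℓ : ℕ)

/-- the locus over which the universal hypersurface is nonsingular and `ℓ` is invertible -/
noncomputable def good : (Spec (CommRingCat.of (P.{u} (n + 1)))).Opens :=
  ⟨((toSpec (univForm.{u} (n + 1) d)) '' (nsOpen (univForm.{u} (n + 1) d) : Set _)ᶜ)ᶜ,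
    (((toSpec (univForm.{u} (n + 1) d)).isClosedMap _ (nsOpen (univForm.{u} (n + 1) d)).2.isClosed_compl)).isOpen_compl⟩ ⊓
    PrimeSpectrum.basicOpen (ℓ : P.{u} (n + 1))

theorem preimage_good : toSpec (univForm.{u} (n + 1) d) ⁻¹ᵁ (good.{u} n d ℓ) ≤ nsOpen (univForm.{u} (n + 1) d) := by
  intro x hx
  by_contra h
  exact hx.1 ⟨x, h, rfl⟩

/-- the family -/
noncomputable abbrev fam := toSpec (univForm.{u} (n + 1) d) ∣_ (good.{u} n d ℓ)

instance isProper_fam : IsProper (fam.{u} n d ℓ) :=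
  IsZariskiLocalAtTarget.restrict (P := @IsProper) inferInstance _

instance smooth_fam : Smooth (fam.{u} n d ℓ) := by
  have h1 := smooth_nsOpen (univForm.{u} (n + 1) d)
  have h2 : Smooth ((nsOpen (univForm.{u} (n + 1) d)).ι ≫ toSpec (univForm.{u} (n + 1) d)) :=
    @SmoothOfRelativeDimension.smooth n _ _ _ h1
  exact smooth_restrict _ _ h2 _ (preimage_good n d ℓ)

theorem isUnit_of_le {R : Type u} [CommRing R] (m : ℕ) (U : (Spec (CommRingCat.of R)).Opens)
    (hU : ∀ x ∈ U, (m : R) ∉ x.asIdeal) : IsUnit ((m : ℕ) : Γ(U.toScheme, ⊤)) := by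
  let L := Localization.Away (m : R)
  let e : Spec (CommRingCat.of L) ⟶ Spec (CommRingCat.of R) := Spec.map (CommRingCat.ofHom (algebraMap R L))
  have hr : Set.range U.ι ⊆ Set.range e := by
    rw [range_away, Scheme.Opens.range_ι]
    exact fun x hx => hU x hx
  let t : U.toScheme ⟶ Spec (CommRingCat.of L) := IsOpenImmersion.lift e U.ι hr
  have h1 : IsUnit ((m : ℕ) : L) := by
    have := IsLocalization.Away.algebraMap_isUnit (S := L) (m : R)
    rwa [map_natCast] at this
  have h2 := (h1.map (Scheme.ΓSpecIso (CommRingCat.of L)).inv.hom).map t.appTop.hom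
  rwa [map_natCast, map_natCast] at h2

theorem isUnit_good : IsUnit ((ℓ : ℕ) : Γ((good.{u} n d ℓ).toScheme, ⊤)) :=
  isUnit_of_le ℓ _ (fun _ hx => hx.2)

variable {n d ℓ}

theorem mem_good {Ω : Type u} [Field Ω] (hℓ : (ℓ : Ω) ≠ 0) (q : ↥(CohB1.polyGrading (n + 1) Ω d)) (hq : nsOpen q = ⊤) :
    Set.range (Spec.map (CommRingCat.ofHom (ev.{u} q.1))) ⊆ (good.{u} n d ℓ : Set _) := by
  rintro _ ⟨y, rfl⟩
  refine ⟨?_, ?_⟩
  · rintro ⟨z, hz, hzy⟩
    obtain ⟨w, hw1, -⟩ := Scheme.Pullback.exists_preimage_pullback (f := toSpec (univForm.{u} (n + 1) d))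
      (g := Spec.map (CommRingCat.ofHom (ev.{u} q.1))) z y hzy
    have hP := isPullback_bc (ev.{u} q.1) (univForm.{u} (n + 1) d)
    have h2 : bc (ev.{u} q.1) (univForm.{u} (n + 1) d) (hP.isoPullback.inv w) = z := by
      rw [← Scheme.Hom.comp_apply, hP.isoPullback_inv_fst, hw1]
    have h4 : nsOpen (mapForm (ev.{u} q.1) (univForm.{u} (n + 1) d)) = ⊤ := by
      rw [mapForm_ev]
      exact hq
    have h3 : hP.isoPullback.inv w ∈ nsOpen (mapForm (ev.{u} q.1) (univForm.{u} (n + 1) d)) := by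
      rw [h4]
      trivial
    exact hz (h2 ▸ nsOpen_le_bc (ev.{u} q.1) (univForm.{u} (n + 1) d) h3)
  · change ¬ (ev.{u} q.1) (ℓ : P.{u} (n + 1)) ∈ y.asIdeal
    rw [map_natCast]
    intro h
    exact y.2.ne_top (Ideal.eq_top_of_isUnit_mem _ h (isUnit_iff_ne_zero.mpr hℓ))

theorem connectedSpace_good [h : Nonempty (good.{u} n d ℓ)] : ConnectedSpace (good.{u} n d ℓ).toScheme := by
  have h0 : IsDomain (ULift.{u} ℤ) := MulEquiv.isDomain ℤ (ULift.ringEquiv (R := ℤ)).toMulEquiv
  have h1 : IrreducibleSpace (Spec (CommRingCat.of (P.{u} (n + 1)))) :=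
    inferInstanceAs (IrreducibleSpace (PrimeSpectrum (P.{u} (n + 1))))
  have h2 : IsPreirreducible ((good.{u} n d ℓ : (Spec (CommRingCat.of (P.{u} (n + 1)))).Opens) : Set _) :=
    (PreirreducibleSpace.isPreirreducible_univ (X := Spec (CommRingCat.of (P.{u} (n + 1))))).open_subset
      (good.{u} n d ℓ).2 (Set.subset_univ _)
  have h3 : PreirreducibleSpace (good.{u} n d ℓ) := Subtype.preirreducibleSpace h2
  have h4 : IrreducibleSpace (good.{u} n d ℓ) := ⟨h⟩
  infer_instance

theorem exists_family {Ω Ω' : Type u} [Field Ω] [Field Ω'] (hℓ : (ℓ : Ω) ≠ 0) (hℓ' : (ℓ : Ω') ≠ 0)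
    (q : ↥(CohB1.polyGrading (n + 1) Ω d)) (hq : nsOpen q = ⊤)
    (q' : ↥(CohB1.polyGrading (n + 1) Ω' d)) (hq' : nsOpen q' = ⊤) :
    ∃ (Y T : Scheme.{u}) (f : Y ⟶ T) (_ : IsProper f) (_ : Smooth f) (_ : ConnectedSpace T)
      (_ : IsUnit ((ℓ : ℕ) : Γ(T, ⊤))) (a : Spec (CommRingCat.of Ω) ⟶ T) (b : Spec (CommRingCat.of Ω') ⟶ T)
      (p : Hyp q ⟶ Y) (p' : Hyp q' ⟶ Y), IsPullback p (toSpec q) f a ∧ IsPullback p' (toSpec q') f b := by
  have key : ∀ {K : Type u} [Field K] (hK : (ℓ : K) ≠ 0) (r : ↥(CohB1.polyGrading (n + 1) K d)) (hr : nsOpen r = ⊤),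
      ∃ (a : Spec (CommRingCat.of K) ⟶ (good.{u} n d ℓ).toScheme)
        (p : Hyp r ⟶ (toSpec (univForm.{u} (n + 1) d) ⁻¹ᵁ (good.{u} n d ℓ)).toScheme),
        IsPullback p (toSpec r) (fam.{u} n d ℓ) a := by
    intro K _ hK r hr
    have hP := isPullback_bc (ev.{u} r.1) (univForm.{u} (n + 1) d)
    have h2 : ∃ p : Hyp r ⟶ Hyp (univForm.{u} (n + 1) d),
        IsPullback p (toSpec r) (toSpec (univForm.{u} (n + 1) d)) (Spec.map (CommRingCat.ofHom (ev.{u} r.1))) := by
      have h3 : ∀ r' : ↥(CohB1.polyGrading (n + 1) K d),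
          mapForm (ev.{u} r.1) (univForm.{u} (n + 1) d) = r' → ∃ p : Hyp r' ⟶ Hyp (univForm.{u} (n + 1) d),
          IsPullback p (toSpec r') (toSpec (univForm.{u} (n + 1) d)) (Spec.map (CommRingCat.ofHom (ev.{u} r.1))) := by
        rintro _ rfl
        exact ⟨_, hP⟩
      exact h3 r (mapForm_ev r)
    obtain ⟨p, hp⟩ := h2
    have hr1 : Set.range (Spec.map (CommRingCat.ofHom (ev.{u} r.1))) ⊆ Set.range (good.{u} n d ℓ).ι := by
      rw [Scheme.Opens.range_ι]
      exact mem_good hK r hr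
    have hr2 : Set.range p ⊆ Set.range (toSpec (univForm.{u} (n + 1) d) ⁻¹ᵁ (good.{u} n d ℓ)).ι := by
      rw [Scheme.Opens.range_ι]
      rintro _ ⟨x, rfl⟩
      change toSpec (univForm.{u} (n + 1) d) (p x) ∈ (good.{u} n d ℓ)
      rw [← Scheme.Hom.comp_apply, hp.w, Scheme.Hom.comp_apply]
      exact mem_good hK r hr ⟨_, rfl⟩
    refine ⟨IsOpenImmersion.lift (good.{u} n d ℓ).ι _ hr1, IsOpenImmersion.lift _ p hr2, ?_⟩
    have hR := (isPullback_morphismRestrict (toSpec (univForm.{u} (n + 1) d)) (good.{u} n d ℓ)).flip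
    refine IsPullback.of_right (h₁₂ := (toSpec (univForm.{u} (n + 1) d) ⁻¹ᵁ (good.{u} n d ℓ)).ι)
      (h₂₂ := (good.{u} n d ℓ).ι) ?_ ?_ hR
    · rw [IsOpenImmersion.lift_fac, IsOpenImmersion.lift_fac]
      exact hp
    · rw [← cancel_mono (good.{u} n d ℓ).ι, Category.assoc, Category.assoc, morphismRestrict_ι,
        IsOpenImmersion.lift_fac_assoc, IsOpenImmersion.lift_fac]
      exact hp.w
  obtain ⟨a, p, hp⟩ := key hℓ q hq
  obtain ⟨b, p', hp'⟩ := key hℓ' q' hq'
  have : Nonempty (good.{u} n d ℓ) := ⟨a (IsLocalRing.closedPoint Ω)⟩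
  exact ⟨_, _, fam.{u} n d ℓ, inferInstance, inferInstance, connectedSpace_good, isUnit_good n d ℓ, a, b, p, p', hp, hp'⟩

end Family

end Groth.Agent.Vancyc.H517.Univ
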