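import Groth.Agent.Vancyc.H517.Homog

/-!
# The divisor at infinity of a projective hypersurface

For `q : CohB1.polyGrading (n + 1) A d`:
* `kform q : CohB1.polyGrading n A d` (put the last variable equal to `0`);
* `bdry q : Hyp (kform q) ⟶ Hyp q`, a closed immersion over `Spec A`, whose range is the complement of the chart
  `chartH q (Fin.last _)`.
-/

set_option autoImplicit false

open CategoryTheory AlgebraicGeometry MvPolynomial HomogeneousLocalization
open Groth.Agent.Sga5.ProjChart Groth.Agent.Sga5.ProjSmooth Groth.Agent.Sga5.ProjHyper Groth.Agent.Sga5.ProjSurj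
open Groth.Agent.Lefpen.H713.HypProj Groth.Agent.Vancyc.H517.HypJac Groth.Agent.Vancyc.H517.Homog
open Groth.Agent.Lefpen.H713.GrQuot

universe u

namespace Groth.Agent.Vancyc.H517.Bdry

variable {A : Type u} [CommRing A] {n d : ℕ} (q : ↥(CohB1.polyGrading (n + 1) A d))

/-- the restriction of the form to the hyperplane at infinity -/
noncomputable def kform : ↥(CohB1.polyGrading n A d) := ⟨killLast (n + 1) A q.1, killLast_mem _ _ q.2⟩

/-- the map of homogeneous coordinate rings -/
noncomputable def killQ : CR q →+* CR (kform q) :=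
  Ideal.quotientMap _ (killLast (n + 1) A) (by
    rw [Ideal.span_singleton_le_iff_mem]
    exact Ideal.mem_span_singleton_self _)

theorem killQ_mk (a : MvPolynomial (Fin (n + 2)) A) :
    killQ q (Ideal.Quotient.mk _ a) = Ideal.Quotient.mk _ (killLast (n + 1) A a) := rfl

/-- the map of homogeneous coordinate rings, graded -/
noncomputable def killG : gr q →+*ᵍ gr (kform q) where
  toRingHom := killQ q
  map_mem := by
    rintro i _ ⟨a, ha, rfl⟩
    exact ⟨killLast (n + 1) A a, killLast_mem (n + 1) A ha, rfl⟩

theorem killG_apply (a : CR q) : killG q a = killQ q a := rfl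

theorem degSurj_killG : DegSurj (killG q) := by
  rintro i _ ⟨a, ha, rfl⟩
  refine ⟨Ideal.Quotient.mk _ (rename Fin.castSucc a), mk_mem_quotGr _ _ (IsHomogeneous.rename_isHomogeneous ha), ?_⟩
  rw [killG_apply, killQ_mk, killLast_rename]
  rfl

theorem ker_killQ : RingHom.ker (killQ q) = Ideal.span {Ideal.Quotient.mk (Ideal.span {q.1}) (X (Fin.last (n + 1)))} := by
  apply le_antisymm
  · intro a ha
    obtain ⟨a, rfl⟩ := Ideal.Quotient.mk_surjective a
    rw [RingHom.mem_ker, killQ_mk, Ideal.Quotient.eq_zero_iff_mem, Ideal.mem_span_singleton] at ha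
    obtain ⟨b, hb⟩ := ha
    have h1 : a - q.1 * rename Fin.castSucc b ∈ RingHom.ker (killLast (n + 1) A) := by
      rw [RingHom.mem_ker, map_sub, map_mul, killLast_rename, hb]
      exact sub_self _
    rw [ker_killLast, Ideal.mem_span_singleton] at h1
    obtain ⟨c, hc⟩ := h1
    have h2 : a = X (Fin.last (n + 1)) * c + q.1 * rename Fin.castSucc b := by rw [← hc]; ring
    rw [h2, map_add, map_mul, map_mul, Ideal.Quotient.eq_zero_iff_mem.mpr (Ideal.mem_span_singleton_self q.1),
      zero_mul, add_zero]
    exact Ideal.mul_mem_right _ _ (Ideal.mem_span_singleton_self _)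
  · rw [Ideal.span_singleton_le_iff_mem, RingHom.mem_ker, killQ_mk, killLast_last, map_zero]

/-- the divisor at infinity -/
noncomputable def bdry : Hyp (kform q) ⟶ Hyp q := Proj.map (killG q) (irrelevant_le_map (degSurj_killG q))

instance isClosedImmersion_bdry : IsClosedImmersion (bdry q) := isClosedImmersion_map _ (degSurj_killG q)

theorem range_bdry : Set.range (bdry q) = (Set.range (chartH q (Fin.last (n + 1))))ᶜ := by
  ext x
  refine (mem_range_map_iff (irrelevant_le_map (degSurj_killG q)) (degSurj_killG q) x).trans ?_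
  have h2 : x ∈ Set.range (chartH q (Fin.last (n + 1))) ↔
      prG q (X (Fin.last (n + 1))) ∉ ProjectiveSpectrum.asHomogeneousIdeal (𝒜 := gr q) x := by
    have h3 : x ∈ Proj.basicOpen (gr q) (prG q (X (Fin.last (n + 1)))) ↔
        prG q (X (Fin.last (n + 1))) ∉ ProjectiveSpectrum.asHomogeneousIdeal (𝒜 := gr q) x :=
      Proj.mem_basicOpen _ _ _
    rw [← opensRange_chartH] at h3
    exact h3
  rw [Set.mem_compl_iff, h2, not_not]
  change RingHom.ker (killQ q) ≤ _ ↔ _
  rw [ker_killQ, Ideal.span_le, Set.singleton_subset_iff]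
  rfl

theorem bdry_emb : bdry q ≫ emb q = emb (kform q) ≫ hyper n A := by
  have h1 := Proj.map_comp (f := prG q) (g := killG q) (hf := irrelevant_le_map (degSurj_prG q))
    (hg := irrelevant_le_map (degSurj_killG q))
  have h2 := Proj.map_comp (f := kill n A) (g := prG (kform q)) (hf := irrelevant_le_map (degSurj_kill n A))
    (hg := irrelevant_le_map (degSurj_prG (kform q)))
  exact h1.symm.trans h2

@[reassoc]
theorem bdry_toSpec : bdry q ≫ toSpec q = toSpec (kform q) := by
  rw [toSpec, ← Category.assoc, bdry_emb, Category.assoc, hyper_toSpec]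
  rfl

theorem mem_range_bdry_iff (x : Hyp q) :
    x ∈ Set.range (bdry q) ↔ x ∉ (chartH q (Fin.last (n + 1))).opensRange := by
  rw [range_bdry]
  rfl

theorem kform_hform {m N : ℕ} (p : MvPolynomial (Fin (m + 1)) A) :
    (kform (hform N p)).1 = homogeneousComponent N p := killLast_homog N p

/-- the complement of the affine part is the divisor at infinity -/
theorem range_bdry_hform {m N : ℕ} {p : MvPolynomial (Fin (m + 1)) A} (hp : p.totalDegree ≤ N) :
    Set.range (bdry (hform N p)) = (Set.range (aff hp))ᶜ := by
  rw [range_bdry]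
  congr 1
  exact (congrArg (fun U : (Xbar N p).Opens => (U : Set (Xbar N p))) (opensRange_aff hp)).symm

end Groth.Agent.Vancyc.H517.Bdry
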