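import Groth.Agent.Vancyc.H517.E1Alg
import Groth.Agent.Vancyc.H517.Univ
import Groth.Agent.Vancyc.H588.E1

/-!
# The Euler characteristic of the geometric generic fibre of the compactified family `g = t` (E1 of S4015)

`ec_fibre`: it only depends on the number of variables and the degree `N` of the Fermat top form;
`ec_bdry`: the same for the divisor at infinity (any geometric points);
`ec_hyp`: nonsingular projective hypersurfaces of the same degree and dimension over separably closed fields in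
which `ℓ` is invertible have the same Euler characteristic.
-/

set_option autoImplicit false

open CategoryTheory CategoryTheory.Limits AlgebraicGeometry MvPolynomial
open Groth.Agent.Lefpen.H713.HypProj Groth.Agent.Vancyc.H517.HypJac Groth.Agent.Vancyc.H517.HypBC
open Groth.Agent.Vancyc.H517.Homog Groth.Agent.Vancyc.H517.Bdry Groth.Agent.Vancyc.H517.Family
open Groth.Agent.Vancyc.H517.E1Alg Groth.Agent.Vancyc.H517.Univ
open Groth.Agent.Lefpen.H714 Groth.Agent.Lefpen.H714.EulerAlg Groth.Agent.Lefpen.H714.EulerEt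

universe u

namespace Groth.Agent.Vancyc.H517.E1

theorem ec_of_isIso {X Y : Scheme.{u}} (f : X ⟶ Y) [IsIso f] (ℓ : ℕ) : ec ℓ X = ec ℓ Y :=
  e_congr fun q => by
    obtain ⟨e1⟩ := Groth.Agent.Etrest.HConstIso.nonempty_HConst (asIso f) (ZMod ℓ) q
    first
      | exact ⟨e1.toEquiv⟩
      | exact ⟨e1.symm.toEquiv⟩

variable {n N : ℕ} {ℓ : ℕ} [Fact ℓ.Prime] {Ω Ω' : Type u} [Field Ω] [IsSepClosed Ω] [Field Ω'] [IsSepClosed Ω']

/-- Nonsingular hypersurfaces of the same degree and dimension have the same Euler characteristic. -/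
theorem ec_hyp (hℓ : (ℓ : Ω) ≠ 0) (hℓ' : (ℓ : Ω') ≠ 0)
    (q : ↥(CohB1.polyGrading (n + 1) Ω N)) (hq : nsOpen q = ⊤)
    (q' : ↥(CohB1.polyGrading (n + 1) Ω' N)) (hq' : nsOpen q' = ⊤) : ec ℓ (Hyp q) = ec ℓ (Hyp q') := by
  obtain ⟨Y, T, f, h1, h2, h3, h4, a, b, p, p', h5, h6⟩ := exists_family hℓ hℓ' q hq q' hq'
  exact Groth.Agent.Vancyc.H588.E1.ec_eq_of_isPullback f ℓ h4 h5 h6

omit [Fact ℓ.Prime] in
theorem ec_pullback_eq {A B : Type u} [CommRing A] [CommRing B] (ψ : A →+* B) {m : ℕ}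
    (q : ↥(CohB1.polyGrading m A N)) (r : ↥(CohB1.polyGrading m B N)) (h : mapForm ψ q = r) :
    ec ℓ (pullback (toSpec q) (Spec.map (CommRingCat.ofHom ψ))) = ec ℓ (Hyp r) := by
  subst h
  exact (ec_of_isIso (isPullback_bc ψ q).isoPullback.hom ℓ).symm

variable {k k' : Type u} [Field k] [Field k'] {g : MvPolynomial (Fin (n + 1)) k} {g' : MvPolynomial (Fin (n + 1)) k'}

theorem ec_fibre (hN : 2 ≤ N) (hNk : (N : k) ≠ 0) (hNk' : (N : k') ≠ 0)
    (hg : (g - ∑ i, X i ^ N).totalDegree < N) (hg' : (g' - ∑ i, X i ^ N).totalDegree < N)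
    (hℓ : (ℓ : Ω) ≠ 0) (hℓ' : (ℓ : Ω') ≠ 0)
    (ψ : Polynomial k →+* Ω) (hψ : Function.Injective ψ) (ψ' : Polynomial k' →+* Ω') (hψ' : Function.Injective ψ') :
    ec ℓ (pullback (toSpec (Q N g)) (Spec.map (CommRingCat.ofHom ψ))) =
      ec ℓ (pullback (toSpec (Q N g')) (Spec.map (CommRingCat.ofHom ψ'))) := by
  rw [ec_pullback_eq ψ _ _ (mapForm_Q N g ψ), ec_pullback_eq ψ' _ _ (mapForm_Q N g' ψ')]
  exact ec_hyp hℓ hℓ' _ (nsOpen_fibre hN hNk hg ψ hψ) _ (nsOpen_fibre hN hNk' hg' ψ' hψ')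

/-- the divisor at infinity -/
theorem ec_bdry {g g' : MvPolynomial (Fin (n + 1)) k} (hN : 1 ≤ N) (hNk : (N : k) ≠ 0)
    (hg : (g - ∑ i, X i ^ N).totalDegree < N) (hg' : (g' - ∑ i, X i ^ N).totalDegree < N) (hℓ : (ℓ : k) ≠ 0)
    (ψ : Polynomial k →+* Ω) (ψ' : Polynomial k →+* Ω') :
    ec ℓ (pullback (bdry (Q N g) ≫ toSpec (Q N g)) (Spec.map (CommRingCat.ofHom ψ))) =
      ec ℓ (pullback (bdry (Q N g') ≫ toSpec (Q N g')) (Spec.map (CommRingCat.ofHom ψ'))) := by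
  have h1 : kform (Q N g) = kform (Q N g') := Subtype.ext (by rw [kform_Q hN hg, kform_Q hN hg'])
  have hs := smooth_bdry_Q hN hNk hg'
  rw [bdry_toSpec] at hs
  have hℓu : IsUnit (ℓ : Γ(Spec (CommRingCat.of (Polynomial k)), ⊤)) := by
    have h2 := (isUnit_iff_ne_zero.mpr hℓ).map (Polynomial.C : k →+* Polynomial k)
    rw [map_natCast] at h2
    have h3 := h2.map (Scheme.ΓSpecIso (CommRingCat.of (Polynomial k))).inv.hom
    rwa [map_natCast] at h3
  have hc : ConnectedSpace (Spec (CommRingCat.of (Polynomial k))) :=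
    inferInstanceAs (ConnectedSpace (PrimeSpectrum (Polynomial k)))
  rw [bdry_toSpec, bdry_toSpec, h1]
  exact Groth.Agent.Vancyc.H588.E1.ec_eq (toSpec (kform (Q N g'))) ℓ hℓu _ _

end Groth.Agent.Vancyc.H517.E1
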