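import Groth.Agent.Vancyc.H517.Family
import Groth.Agent.Vancyc.H517.HypBC
import Groth.Agent.Vancyc.H578.Count

/-!
# The generic member of the family `g = t` is nonsingular

For `g : MvPolynomial (Fin (n + 1)) k` with `g - ∑ X_i ^ N` of degree `< N` and `N` invertible:

* `sard`: a nonzero `χ : k[T]` with `χ(g)` in the Jacobian ideal;
* `mapForm_Q`: the fibre of the compactified family is `Hyp (hform N (fp ψ g))`;
* `nsOpen_fibre`: it is nonsingular for `ψ : k[T] →+* Ω` injective;
* `smooth_bdry_Q`: the divisor at infinity is smooth.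
-/

set_option autoImplicit false

open CategoryTheory CategoryTheory.Limits AlgebraicGeometry MvPolynomial
open Groth.Agent.Sga5.ProjChart Groth.Agent.Sga5.ProjSmooth
open Groth.Agent.Lefpen.H713.HypProj Groth.Agent.Vancyc.H517.HypJac Groth.Agent.Vancyc.H517.HypBC
open Groth.Agent.Vancyc.H517.Homog Groth.Agent.Vancyc.H517.Bdry Groth.Agent.Vancyc.H517.Family
open Groth.Agent.Vancyc.H578.Count

universe u

namespace Groth.Agent.Vancyc.H517.E1Alg

section Fp

variable {k : Type u} [CommRing k] {m : ℕ} {R R' : Type u} [CommRing R] [CommRing R']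

theorem map_fp (φ : Polynomial k →+* R) (χ : R →+* R') (g : MvPolynomial (Fin m) k) :
    MvPolynomial.map χ (fp φ g) = fp (χ.comp φ) g := by
  rw [fp, fp, map_sub, map_map, map_C]
  rfl

theorem totalDegree_fp_le (φ : Polynomial k →+* R) (g : MvPolynomial (Fin m) k) {N : ℕ} (hg : g.totalDegree ≤ N) :
    (fp φ g).totalDegree ≤ N := by
  rw [fp]
  refine (totalDegree_sub_C_le _ _).trans ?_
  refine le_trans ?_ hg
  exact Finset.sup_mono (support_map_subset _ _)

theorem pderiv_fp (φ : Polynomial k →+* R) (g : MvPolynomial (Fin m) k) (j : Fin m) :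
    pderiv j (fp φ g) = MvPolynomial.map (φ.comp Polynomial.C) (pderiv j g) := by
  rw [fp, map_sub, pderiv_C, sub_zero, pderiv_map]

theorem hc_fp (φ : Polynomial k →+* R) (g : MvPolynomial (Fin m) k) {N : ℕ} (hN : 1 ≤ N)
    (hg : (g - ∑ i, X i ^ N).totalDegree < N) : homogeneousComponent N (fp φ g) = ∑ i, X i ^ N := by
  have h1 : homogeneousComponent N g = ∑ i, X i ^ N := by
    have h2 : g = (g - ∑ i, X i ^ N) + ∑ i, X i ^ N := by ring
    rw [h2, map_add, homogeneousComponent_eq_zero _ _ hg, zero_add, map_sum]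
    refine Finset.sum_congr rfl fun i _ => ?_
    have h3 : (X i ^ N : MvPolynomial (Fin m) k).IsHomogeneous N := by
      have := (isHomogeneous_X k i).pow N
      rwa [one_mul] at this
    rw [homogeneousComponent_of_mem h3, if_pos rfl]
  rw [fp, map_sub, ← map_homogeneousComponent, h1, map_sum]
  have h4 : homogeneousComponent N (C (φ Polynomial.X) : MvPolynomial (Fin m) R) = 0 :=
    homogeneousComponent_eq_zero _ _ (by rw [totalDegree_C]; omega)
  rw [h4, sub_zero]
  exact Finset.sum_congr rfl fun i _ => by rw [map_pow, map_X]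

theorem totalDegree_le_of_top (g : MvPolynomial (Fin m) k) {N : ℕ}
    (hg : (g - ∑ i, X i ^ N).totalDegree < N) : g.totalDegree ≤ N := by
  have h2 : g = (g - ∑ i, X i ^ N) + ∑ i, X i ^ N := by ring
  rw [h2]
  refine (totalDegree_add _ _).trans (max_le hg.le ?_)
  refine (totalDegree_finset_sum _ _).trans (Finset.sup_le fun i _ => ?_)
  exact (totalDegree_pow _ _).trans (by
    by_cases h : Subsingleton k
    · have : (X i : MvPolynomial (Fin m) k) = 0 := Subsingleton.elim _ _
      rw [this]; simp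
    · rw [not_subsingleton_iff_nontrivial] at h
      rw [totalDegree_X, mul_one])

/-- The Fermat form is nonsingular. -/
theorem nonsing_fermat {σ : Type} [Fintype σ] {N : ℕ} (hN : IsUnit (N : R)) :
    NonsingForm (∑ i : σ, X i ^ N : MvPolynomial σ R) := by
  classical
  intro i
  obtain ⟨u, hu⟩ := hN
  refine ⟨N - 1, ?_⟩
  have h1 : pderiv i (∑ j : σ, X j ^ N : MvPolynomial σ R) = C (N : R) * X i ^ (N - 1) := by
    rw [map_sum, Finset.sum_eq_single i]
    · rw [pderiv_pow, pderiv_X_self, mul_one, ← map_natCast (C : R →+* MvPolynomial σ R) N]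
    · intro j _ hj
      rw [pderiv_pow, pderiv_X_of_ne hj, mul_zero]
    · simp
  have h2 : (X i ^ (N - 1) : MvPolynomial σ R) = C (↑u⁻¹ : R) * pderiv i (∑ j : σ, X j ^ N : MvPolynomial σ R) := by
    rw [h1, ← mul_assoc, ← C_mul, ← hu, Units.inv_mul, C_1, one_mul]
  rw [h2]
  exact Ideal.mul_mem_left _ _ (pderiv_mem_jacI _ _)

theorem mapForm_hform {n : ℕ} (χ : R →+* R') (N : ℕ) (p : MvPolynomial (Fin n) R) :
    mapForm χ (hform N p) = hform N (MvPolynomial.map χ p) := Subtype.ext (map_homog χ N p)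

end Fp

section Smooth0

variable {A : Type u} [CommRing A] {d : ℕ}

/-- a nonsingular form defines a smooth hypersurface (any number of variables) -/
theorem smooth_of_nonsing {n : ℕ} (q : ↥(CohB1.polyGrading n A d)) (h : NonsingForm q.1) : Smooth (toSpec q) := by
  cases n with
  | succ n =>
    have := h.smooth
    exact SmoothOfRelativeDimension.smooth n _
  | zero =>
    have h1 : IsEmpty (Hyp q) := by
      refine ⟨fun x => ?_⟩
      obtain ⟨i, y, rfl⟩ := exists_mem_chartH q x
      obtain ⟨m, hm⟩ := h i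
      have h2 := dehom_mem_jacI (d := d) q.2 i hm
      rw [map_pow, dehom_X_self, one_pow] at h2
      have h3 : jacI (dehom 0 A i q.1) ≤ y.asIdeal.comap (Ideal.Quotient.mk (Ideal.span {dehom 0 A i q.1})) := by
        rw [jacI, Ideal.span_le]
        rintro _ (rfl | ⟨l, rfl⟩)
        · change Ideal.Quotient.mk _ _ ∈ y.asIdeal
          rw [Ideal.Quotient.eq_zero_iff_mem.mpr (Ideal.mem_span_singleton_self _)]
          exact zero_mem _
        · exact l.elim0
      have h4 := h3 h2
      rw [Ideal.mem_comap, map_one] at h4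
      exact y.2.ne_top ((Ideal.eq_top_iff_one _).mpr h4)
    infer_instance

end Smooth0

section Main

variable {k : Type u} [Field k] {n : ℕ}

/-- the form over `k[t]`: homogenization of `g - t` -/
noncomputable abbrev Q (N : ℕ) (g : MvPolynomial (Fin (n + 1)) k) : ↥(CohB1.polyGrading (n + 1) (Polynomial k) N) :=
  hform N (fp (RingHom.id (Polynomial k)) g)

variable {N : ℕ} {g : MvPolynomial (Fin (n + 1)) k}

theorem mapForm_Q {R : Type u} [CommRing R] (N : ℕ) (g : MvPolynomial (Fin (n + 1)) k) (ψ : Polynomial k →+* R) :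
    mapForm ψ (Q N g) = hform N (fp ψ g) := by
  rw [mapForm_hform, map_fp, RingHom.comp_id]

theorem sard (hN : 2 ≤ N) (hNk : (N : k) ≠ 0) (hg : (g - ∑ i, X i ^ N).totalDegree < N) :
    ∃ χ : Polynomial k, χ ≠ 0 ∧ Polynomial.aeval g χ ∈ jac g := by
  obtain ⟨hfin, -⟩ := jac_finrank hN hNk hg
  have h1 : IsIntegral k (Ideal.Quotient.mkₐ k (jac g) g) := Algebra.IsIntegral.isIntegral _
  obtain ⟨χ, hχ, h2⟩ := h1
  refine ⟨χ, hχ.ne_zero, ?_⟩
  rw [← Ideal.Quotient.eq_zero_iff_mem]
  have h3 : Polynomial.aeval (Ideal.Quotient.mkₐ k (jac g) g) χ = 0 := h2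
  rw [Polynomial.aeval_algHom_apply] at h3
  exact h3

theorem nsOpen_fibre (hN : 2 ≤ N) (hNk : (N : k) ≠ 0) (hg : (g - ∑ i, X i ^ N).totalDegree < N)
    {Ω : Type u} [Field Ω] (ψ : Polynomial k →+* Ω) (hψ : Function.Injective ψ) :
    nsOpen (hform N (fp ψ g)) = ⊤ := by
  have hNΩ : IsUnit (N : Ω) := by
    have := (isUnit_iff_ne_zero.mpr hNk).map (ψ.comp Polynomial.C)
    rwa [map_natCast] at this
  obtain ⟨χ, hχ, hχg⟩ := sard hN hNk hg
  rw [eq_top_iff]
  intro x _
  by_contra hx
  obtain ⟨y, -, hy⟩ := exists_of_notMem_nsOpen (totalDegree_fp_le ψ g (totalDegree_le_of_top g hg))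
    (by rw [hc_fp ψ g (by omega) hg]; exact nonsing_fermat hNΩ) x hx
  have h1 : jac g ≤ y.asIdeal.comap (inrHom ψ g) := by
    rw [jac, Ideal.span_le]
    rintro _ ⟨j, rfl⟩
    have := hy j
    rw [pderiv_fp] at this
    exact this
  have h2 := h1 hχg
  rw [Ideal.mem_comap] at h2
  have h3 : inrHom ψ g (Polynomial.aeval g χ) = algebraMap Ω _ (ψ χ) := by
    have := comp_eq (ψ := (Polynomial.aeval g : Polynomial k →ₐ[k] _).toRingHom) (g := g) ψ
      (fun c => Polynomial.aeval_C _ _) (Polynomial.aeval_X _)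
    exact (congrArg (fun t => t χ) this).symm
  rw [h3] at h2
  refine y.2.ne_top (Ideal.eq_top_of_isUnit_mem _ h2 ((isUnit_iff_ne_zero.mpr ?_).map (algebraMap Ω _)))
  exact fun h => hχ (hψ (h.trans (map_zero ψ).symm))

theorem kform_Q (hN : 1 ≤ N) (hg : (g - ∑ i, X i ^ N).totalDegree < N) :
    (kform (Q N g)).1 = ∑ i, X i ^ N := by
  rw [kform_hform, hc_fp _ g hN hg]

theorem smooth_bdry_Q (hN : 1 ≤ N) (hNk : (N : k) ≠ 0) (hg : (g - ∑ i, X i ^ N).totalDegree < N) :
    Smooth (bdry (Q N g) ≫ toSpec (Q N g)) := by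
  rw [bdry_toSpec]
  apply smooth_of_nonsing
  rw [kform_Q hN hg]
  apply nonsing_fermat
  have := (isUnit_iff_ne_zero.mpr hNk).map (Polynomial.C : k →+* Polynomial k)
  rwa [map_natCast] at this

end Main

end Groth.Agent.Vancyc.H517.E1Alg
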