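import Groth.Agent.Vancyc.H517.Bdry

/-!
# The family `g = t`

`g : MvPolynomial (Fin m) k`, `φ : Polynomial k →+* R`, `ψ : Polynomial k →+* MvPolynomial (Fin m) k` the map `T ↦ g`:

* `isPushout_fam`: `R[x] ⧸ (g - φ T)` is the pushout of `φ` and `ψ`;
* `isPullback_fam`: the scheme version;
* `flat_fam`: `R ⟶ R[x] ⧸ (g - φ T)` is flat if `k` is a field and `g` is not constant.
-/

set_option autoImplicit false

open CategoryTheory CategoryTheory.Limits AlgebraicGeometry MvPolynomial

universe u

namespace Groth.Agent.Vancyc.H517.Family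

variable {k : Type u} [CommRing k] {m : ℕ} {R : Type u} [CommRing R]

/-- the equation `g - t` -/
noncomputable def fp (φ : Polynomial k →+* R) (g : MvPolynomial (Fin m) k) : MvPolynomial (Fin m) R :=
  MvPolynomial.map (φ.comp Polynomial.C) g - C (φ Polynomial.X)

section Desc

variable (φ : Polynomial k →+* R) (g : MvPolynomial (Fin m) k)
  (ψ : Polynomial k →+* MvPolynomial (Fin m) k)

/-- the quotient map followed by base change of the coefficients -/
noncomputable def inrHom : MvPolynomial (Fin m) k →+* MvPolynomial (Fin m) R ⧸ Ideal.span {fp φ g} :=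
  (Ideal.Quotient.mk (Ideal.span {fp φ g})).comp (MvPolynomial.map (φ.comp Polynomial.C))

variable {ψ g}

theorem comp_eq (hC : ∀ c, ψ (Polynomial.C c) = C c) (hX : ψ Polynomial.X = g) :
    (algebraMap R (MvPolynomial (Fin m) R ⧸ Ideal.span {fp φ g})).comp φ = (inrHom φ g).comp ψ := by
  apply Polynomial.ringHom_ext
  · intro c
    change Ideal.Quotient.mk (Ideal.span {fp φ g}) (C (φ (Polynomial.C c))) =
      Ideal.Quotient.mk (Ideal.span {fp φ g}) (MvPolynomial.map (φ.comp Polynomial.C) (ψ (Polynomial.C c)))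
    rw [hC, map_C]
    rfl
  · change Ideal.Quotient.mk (Ideal.span {fp φ g}) (C (φ Polynomial.X)) =
      Ideal.Quotient.mk (Ideal.span {fp φ g}) (MvPolynomial.map (φ.comp Polynomial.C) (ψ Polynomial.X))
    rw [hX, eq_comm, Ideal.Quotient.eq]
    exact Ideal.mem_span_singleton_self _

variable {φ} {B : Type*} [CommRing B] {a : R →+* B} {b : MvPolynomial (Fin m) k →+* B}

theorem eval_fp (hC : ∀ c, ψ (Polynomial.C c) = C c) (hX : ψ Polynomial.X = g) (h : a.comp φ = b.comp ψ) :
    eval₂Hom a (fun i => b (X i)) (fp φ g) = 0 := by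
  have h1 : ∀ c, a (φ (Polynomial.C c)) = b (C c) := fun c => by
    have := congrArg (fun t => t (Polynomial.C c)) h
    simp only [RingHom.comp_apply, hC] at this
    exact this
  have h2 : a (φ Polynomial.X) = b g := by
    have := congrArg (fun t => t Polynomial.X) h
    simp only [RingHom.comp_apply, hX] at this
    exact this
  have h4 : eval₂Hom (a.comp (φ.comp Polynomial.C)) (fun i => b (X i)) = b := by
    apply MvPolynomial.ringHom_ext
    · intro c
      rw [coe_eval₂Hom, eval₂_C]
      exact h1 c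
    · intro i
      rw [coe_eval₂Hom, eval₂_X]
  rw [fp, map_sub, sub_eq_zero, coe_eval₂Hom, eval₂_map, eval₂_C, h2]
  exact congrArg (fun t => t g) h4

/-- the universal property -/
noncomputable def descHom (hC : ∀ c, ψ (Polynomial.C c) = C c) (hX : ψ Polynomial.X = g) (h : a.comp φ = b.comp ψ) :
    MvPolynomial (Fin m) R ⧸ Ideal.span {fp φ g} →+* B :=
  Ideal.Quotient.lift _ (eval₂Hom a (fun i => b (X i))) (fun x hx => by
    obtain ⟨y, rfl⟩ := Ideal.mem_span_singleton.mp hx
    rw [map_mul, eval_fp hC hX h, zero_mul])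

theorem descHom_mk (hC : ∀ c, ψ (Polynomial.C c) = C c) (hX : ψ Polynomial.X = g) (h : a.comp φ = b.comp ψ)
    (r : MvPolynomial (Fin m) R) :
    descHom hC hX h (Ideal.Quotient.mk (Ideal.span {fp φ g}) r) = eval₂ a (fun i => b (X i)) r := rfl

theorem descHom_inl (hC : ∀ c, ψ (Polynomial.C c) = C c) (hX : ψ Polynomial.X = g) (h : a.comp φ = b.comp ψ) :
    (descHom hC hX h).comp (algebraMap R _) = a := by
  ext r
  exact (descHom_mk hC hX h (C r)).trans (eval₂_C _ _ _)

theorem descHom_inr (hC : ∀ c, ψ (Polynomial.C c) = C c) (hX : ψ Polynomial.X = g) (h : a.comp φ = b.comp ψ) :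
    (descHom hC hX h).comp (inrHom φ g) = b := by
  apply MvPolynomial.ringHom_ext
  · intro c
    have h1 : a (φ (Polynomial.C c)) = b (C c) := by
      have := congrArg (fun t => t (Polynomial.C c)) h
      simp only [RingHom.comp_apply, hC] at this
      exact this
    rw [← h1]
    refine (descHom_mk hC hX h (MvPolynomial.map (φ.comp Polynomial.C) (C c))).trans ?_
    rw [map_C, eval₂_C]
    rfl
  · intro i
    refine (descHom_mk hC hX h (MvPolynomial.map (φ.comp Polynomial.C) (X i))).trans ?_
    rw [map_X, eval₂_X]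

theorem hom_ext_fam {s t : MvPolynomial (Fin m) R ⧸ Ideal.span {fp φ g} →+* B}
    (h1 : s.comp (algebraMap R _) = t.comp (algebraMap R _)) (h2 : s.comp (inrHom φ g) = t.comp (inrHom φ g)) :
    s = t := by
  apply Ideal.Quotient.ringHom_ext
  apply MvPolynomial.ringHom_ext
  · intro r
    exact congrArg (fun u => u r) h1
  · intro i
    have := congrArg (fun u => u (X i)) h2
    change s (Ideal.Quotient.mk _ (MvPolynomial.map _ (X i))) = t (Ideal.Quotient.mk _ (MvPolynomial.map _ (X i))) at this
    rw [map_X] at this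
    exact this

end Desc

theorem isPushout_fam (φ : Polynomial k →+* R) (g : MvPolynomial (Fin m) k)
    (ψ : Polynomial k →+* MvPolynomial (Fin m) k) (hC : ∀ c, ψ (Polynomial.C c) = C c) (hX : ψ Polynomial.X = g) :
    IsPushout (CommRingCat.ofHom φ) (CommRingCat.ofHom ψ)
      (CommRingCat.ofHom (algebraMap R (MvPolynomial (Fin m) R ⧸ Ideal.span {fp φ g})))
      (CommRingCat.ofHom (inrHom φ g)) := by
  refine ⟨⟨?_⟩, ⟨PushoutCocone.IsColimit.mk _
    (fun s => CommRingCat.ofHom (descHom hC hX (congrArg CommRingCat.Hom.hom s.condition)))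
    (fun s => ?_) (fun s => ?_) (fun s q h1 h2 => ?_)⟩⟩
  · rw [← CommRingCat.ofHom_comp, ← CommRingCat.ofHom_comp, comp_eq φ hC hX]
  · exact CommRingCat.hom_ext (descHom_inl hC hX (congrArg CommRingCat.Hom.hom s.condition))
  · exact CommRingCat.hom_ext (descHom_inr hC hX (congrArg CommRingCat.Hom.hom s.condition))
  · apply CommRingCat.hom_ext
    apply hom_ext_fam
    · exact (congrArg CommRingCat.Hom.hom h1).trans
        (descHom_inl hC hX (congrArg CommRingCat.Hom.hom s.condition)).symm
    · exact (congrArg CommRingCat.Hom.hom h2).trans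
        (descHom_inr hC hX (congrArg CommRingCat.Hom.hom s.condition)).symm

theorem isPullback_fam (φ : Polynomial k →+* R) (g : MvPolynomial (Fin m) k)
    (ψ : Polynomial k →+* MvPolynomial (Fin m) k) (hC : ∀ c, ψ (Polynomial.C c) = C c) (hX : ψ Polynomial.X = g) :
    IsPullback
      (Spec.map (CommRingCat.ofHom (inrHom φ g)))
      (Spec.map (CommRingCat.ofHom (algebraMap R (MvPolynomial (Fin m) R ⧸ Ideal.span {fp φ g}))))
      (Spec.map (CommRingCat.ofHom ψ)) (Spec.map (CommRingCat.ofHom φ)) :=
  isPullback_SpecMap_of_isPushout _ _ _ _ (isPushout_fam φ g ψ hC hX).flip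

end Groth.Agent.Vancyc.H517.Family
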