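import Groth.Agent.Vancyc.H517.HypJac

/-!
# Homogenization and the projective closure of an affine hypersurface over a ring

* `homog N p = ∑_e X_last^(N - e) * p_e`, a form of degree `N` in one more variable (the LAST variable is the new one);
* `dehom_last_homog`, `killLast_homog`, `map_homog`;
* `Xbar N p = Hyp (homog N p)`; `aff : Spec (A[x]/(p)) ⟶ Xbar N p`;
* `mem_nsOpen_of_infinity`: if the form at infinity is nonsingular, then `nsOpen` contains the points at infinity.
-/

set_option autoImplicit false

open CategoryTheory AlgebraicGeometry MvPolynomial HomogeneousLocalization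
open Groth.Agent.Sga5.ProjChart Groth.Agent.Sga5.ProjSmooth Groth.Agent.Sga5.ProjHyper
open Groth.Agent.Lefpen.H713.HypProj Groth.Agent.Vancyc.H517.HypJac

universe u

namespace Groth.Agent.Vancyc.H517.Homog

section Alg

variable {A : Type*} [CommRing A] {n : ℕ}

/-- homogenization to degree `N` (parts of degree `> N` are dropped), the last variable is the new one -/
noncomputable def homog (N : ℕ) (p : MvPolynomial (Fin n) A) : MvPolynomial (Fin (n + 1)) A :=
  ∑ e ∈ Finset.range (N + 1), X (Fin.last n) ^ (N - e) * rename Fin.castSucc (homogeneousComponent e p)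

theorem homog_isHomogeneous (N : ℕ) (p : MvPolynomial (Fin n) A) : (homog N p).IsHomogeneous N := by
  apply IsHomogeneous.sum
  intro e he
  have h1 : (X (Fin.last n) ^ (N - e) : MvPolynomial (Fin (n + 1)) A).IsHomogeneous (N - e) := by
    have := (isHomogeneous_X A (Fin.last n)).pow (N - e)
    rwa [one_mul] at this
  have h2 := h1.mul ((homogeneousComponent_isHomogeneous e p).rename_isHomogeneous (f := Fin.castSucc))
  rw [Nat.sub_add_cancel (Nat.lt_succ_iff.mp (Finset.mem_range.mp he))] at h2
  exact h2

theorem map_homogeneousComponent {B : Type*} [CommRing B] (φ : A →+* B) {σ : Type*} (e : ℕ) (p : MvPolynomial σ A) :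
    MvPolynomial.map φ (homogeneousComponent e p) = homogeneousComponent e (MvPolynomial.map φ p) := by
  ext m
  rw [coeff_map, coeff_homogeneousComponent, coeff_homogeneousComponent, coeff_map]
  split_ifs
  · rfl
  · exact map_zero _

theorem map_homog {B : Type*} [CommRing B] (φ : A →+* B) (N : ℕ) (p : MvPolynomial (Fin n) A) :
    MvPolynomial.map φ (homog N p) = homog N (MvPolynomial.map φ p) := by
  rw [homog, homog, map_sum]
  refine Finset.sum_congr rfl fun e _ => ?_
  rw [map_mul, map_pow, map_X, map_rename, map_homogeneousComponent]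

theorem sum_hc {σ : Type*} {N : ℕ} {p : MvPolynomial σ A} (hp : p.totalDegree ≤ N) :
    ∑ e ∈ Finset.range (N + 1), homogeneousComponent e p = p := by
  conv_rhs => rw [← sum_homogeneousComponent p]
  symm
  apply Finset.sum_subset
  · intro e he
    rw [Finset.mem_range] at he ⊢
    omega
  · intro e _ he
    rw [Finset.mem_range, not_lt] at he
    exact homogeneousComponent_eq_zero _ _ (by omega)

end Alg

section Dehom

variable {A : Type u} [CommRing A] {n : ℕ}

@[simp] theorem dehom_last_X_castSucc (j : Fin n) : dehom n A (Fin.last n) (X (Fin.castSucc j)) = X j := by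
  have := dehom_X n A (Fin.last n) j
  rwa [Fin.succAbove_last] at this

theorem dehom_last_rename (p : MvPolynomial (Fin n) A) :
    dehom n A (Fin.last n) (rename Fin.castSucc p) = p := by
  induction p using MvPolynomial.induction_on with
  | C a => simp
  | add p q hp hq => simp [hp, hq]
  | mul_X p j hp => rw [map_mul, map_mul, hp, rename_X, dehom_last_X_castSucc]

theorem dehom_last_homog {N : ℕ} {p : MvPolynomial (Fin n) A} (hp : p.totalDegree ≤ N) :
    dehom n A (Fin.last n) (homog N p) = p := by
  rw [homog, map_sum]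
  conv_rhs => rw [← sum_hc hp]
  refine Finset.sum_congr rfl fun e _ => ?_
  rw [map_mul, map_pow, dehom_X_self, one_pow, one_mul, dehom_last_rename]

theorem killLast_homog (N : ℕ) (p : MvPolynomial (Fin n) A) :
    killLast n A (homog N p) = homogeneousComponent N p := by
  rw [homog, map_sum, Finset.sum_range_succ]
  have h1 : ∑ x ∈ Finset.range N, killLast n A (X (Fin.last n) ^ (N - x) * rename Fin.castSucc (homogeneousComponent x p)) = 0 := by
    refine Finset.sum_eq_zero fun e he => ?_
    rw [Finset.mem_range] at he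
    rw [map_mul, map_pow, killLast_last, zero_pow (by omega), zero_mul]
  rw [h1, zero_add, Nat.sub_self, pow_zero, one_mul, killLast_rename]

theorem killLast_pderiv (j : Fin n) (p : MvPolynomial (Fin (n + 1)) A) :
    killLast n A (pderiv (Fin.castSucc j) p) = pderiv j (killLast n A p) := by
  induction p using MvPolynomial.induction_on with
  | C a => simp
  | add p q hp hq => simp [hp, hq]
  | mul_X p i hp =>
    rw [map_mul (killLast n A) p, Derivation.leibniz, Derivation.leibniz, ← hp, smul_eq_mul, smul_eq_mul, smul_eq_mul,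
      smul_eq_mul, map_add, map_mul, map_mul]
    congr 2
    refine Fin.lastCases ?_ (fun i => ?_) i
    · rw [killLast_last, pderiv_X_of_ne (Fin.castSucc_lt_last j).ne']
      simp
    · rw [killLast_castSucc, pderiv_X, pderiv_X]
      by_cases h : i = j
      · subst h; simp
      · rw [Pi.single_eq_of_ne h, Pi.single_eq_of_ne (fun h' => h (Fin.castSucc_injective _ h'))]
        simp

theorem exists_lift_jacI (q : MvPolynomial (Fin (n + 1)) A) (r : MvPolynomial (Fin n) A)
    (hr : r ∈ jacI (killLast n A q)) :
    ∃ a ∈ jacI q, ∃ b, rename Fin.castSucc r = a + X (Fin.last n) * b := by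
  have h2 : jacI (killLast n A q) ≤ (jacI q).map (killLast n A) := by
    rw [jacI, Ideal.span_le]
    rintro _ (rfl | ⟨l, rfl⟩)
    · exact Ideal.mem_map_of_mem _ (self_mem_jacI q)
    · change pderiv l (killLast n A q) ∈ (jacI q).map (killLast n A)
      rw [← killLast_pderiv]
      exact Ideal.mem_map_of_mem _ (pderiv_mem_jacI q _)
  obtain ⟨a, ha, har⟩ := (Ideal.mem_map_iff_of_surjective _ (killLast_surjective n A)).mp (h2 hr)
  refine ⟨a, ha, ?_⟩
  have h3 : rename Fin.castSucc r - a ∈ RingHom.ker (killLast n A) := by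
    rw [RingHom.mem_ker, map_sub, killLast_rename, har, sub_self]
  rw [ker_killLast, Ideal.mem_span_singleton] at h3
  obtain ⟨b, hb⟩ := h3
  exact ⟨b, by rw [← hb]; ring⟩

end Dehom

section Infinity

variable {A : Type u} [CommRing A] {n d : ℕ} (q : ↥(CohB1.polyGrading (n + 1) A d))

/-- along the hyperplane at infinity -/
theorem mem_nsOpen_of_infinity (h : NonsingForm (killLast (n + 1) A q.1)) (x : Hyp q)
    (hx : x ∉ (chartH q (Fin.last (n + 1))).opensRange) : x ∈ nsOpen q := by
  obtain ⟨i, y, rfl⟩ := exists_mem_chartH q x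
  refine Fin.lastCases (fun y hx => (hx ⟨y, rfl⟩).elim) (fun i y hx => ?_) i y hx
  rw [mem_chartH_iff, not_not] at hx
  obtain ⟨m, hm⟩ := h i
  obtain ⟨a, ha, b, hab⟩ := exists_lift_jacI q.1 _ hm
  refine chartH_mem_nsOpen_of_jacI q _ y a ha ?_
  intro hay
  have h1 : dehom (n + 1) A (Fin.castSucc i) (rename Fin.castSucc (X i ^ m)) = 1 := by
    rw [map_pow, rename_X, map_pow, dehom_X_self, one_pow]
  rw [hab, map_add, map_mul] at h1
  have h2 : Ideal.Quotient.mk (Ideal.span {dehom (n + 1) A (Fin.castSucc i) q.1})
      (dehom (n + 1) A (Fin.castSucc i) a +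
        dehom (n + 1) A (Fin.castSucc i) (X (Fin.last (n + 1))) * dehom (n + 1) A (Fin.castSucc i) b) ∈ y.asIdeal := by
    rw [map_add, map_mul]
    exact add_mem hay (Ideal.mul_mem_right _ _ hx)
  rw [h1, map_one] at h2
  exact y.2.ne_top ((Ideal.eq_top_iff_one _).mpr h2)

end Infinity

section Closure

variable {A : Type u} [CommRing A] {n : ℕ} (N : ℕ) (p : MvPolynomial (Fin n) A)

/-- the homogenization as an element of the grading -/
noncomputable def hform : ↥(CohB1.polyGrading n A N) := ⟨homog N p, homog_isHomogeneous N p⟩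

/-- the projective closure `V_+(homog N p)` in `P^n_A` of the affine hypersurface `p = 0` in `A^n_A` -/
noncomputable abbrev Xbar : Scheme.{u} := Hyp (hform N p)

variable {N p}

/-- the identification of the last chart ring with `A[x]/(p)` -/
noncomputable def affEquiv (hp : p.totalDegree ≤ N) :
    ChR (hform N p) (Fin.last n) ≃ₐ[A] MvPolynomial (Fin n) A ⧸ Ideal.span {p} :=
  Ideal.quotientEquivAlgOfEq A (by rw [hform, dehom_last_homog hp])

theorem affEquiv_mk (hp : p.totalDegree ≤ N) (r : MvPolynomial (Fin n) A) :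
    affEquiv hp (Ideal.Quotient.mk _ r) = Ideal.Quotient.mk _ r := rfl

theorem affEquiv_symm_mk (hp : p.totalDegree ≤ N) (r : MvPolynomial (Fin n) A) :
    (affEquiv hp).symm (Ideal.Quotient.mk _ r) = Ideal.Quotient.mk _ r := rfl

/-- the affine hypersurface as an open subscheme of its closure -/
noncomputable def aff (hp : p.totalDegree ≤ N) :
    Spec (CommRingCat.of (MvPolynomial (Fin n) A ⧸ Ideal.span {p})) ⟶ Xbar N p :=
  Spec.map (CommRingCat.ofHom (affEquiv hp).toRingEquiv.toRingHom) ≫ chartH (hform N p) (Fin.last n)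

instance isIso_affEquiv (hp : p.totalDegree ≤ N) :
    IsIso (Spec.map (CommRingCat.ofHom (affEquiv hp).toRingEquiv.toRingHom)) := by
  have : IsIso (CommRingCat.ofHom (affEquiv hp).toRingEquiv.toRingHom) :=
    (ConcreteCategory.isIso_iff_bijective _).mpr (affEquiv hp).bijective
  infer_instance

instance isOpenImmersion_aff (hp : p.totalDegree ≤ N) : IsOpenImmersion (aff hp) := by
  rw [aff]; infer_instance

@[reassoc]
theorem aff_toSpec (hp : p.totalDegree ≤ N) :
    aff hp ≫ toSpec (hform N p) = Spec.map (CommRingCat.ofHom (algebraMap A _)) := by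
  rw [aff, Category.assoc, chartH_toSpec, ← Spec.map_comp, ← CommRingCat.ofHom_comp]
  rfl

theorem opensRange_aff (hp : p.totalDegree ≤ N) :
    (aff hp).opensRange = (chartH (hform N p) (Fin.last n)).opensRange :=
  @Scheme.Hom.opensRange_comp_of_isIso _ _ _ (Spec.map (CommRingCat.ofHom (affEquiv hp).toRingEquiv.toRingHom))
    (chartH (hform N p) (Fin.last n)) _ _

end Closure

section ClosureSmooth

variable {A : Type u} [CommRing A] {n N : ℕ} {p : MvPolynomial (Fin (n + 1)) A}

theorem aff_mem_nsOpen (hp : p.totalDegree ≤ N)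
    (y : Spec (CommRingCat.of (MvPolynomial (Fin (n + 1)) A ⧸ Ideal.span {p}))) (hy : y ∈ affNs p) :
    aff hp y ∈ nsOpen (hform N p) := by
  obtain ⟨j, hj⟩ := mem_affNs.mp hy
  rw [aff, Scheme.Hom.comp_apply]
  apply chartH_mem_nsOpen
  rw [mem_affNs]
  refine ⟨j, ?_⟩
  intro h
  apply hj
  have h1 : affEquiv hp (pd (dehom (n + 1) A (Fin.last (n + 1)) (hform N p).1) j) ∈ y.asIdeal := h
  have h2 : affEquiv hp (pd (dehom (n + 1) A (Fin.last (n + 1)) (hform N p).1) j) = pd p j := by
    rw [pd, affEquiv_mk, pd, hform, dehom_last_homog hp]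
  rwa [h2] at h1

/-- the points outside of `nsOpen` are critical points in the affine part -/
theorem exists_of_notMem_nsOpen (hp : p.totalDegree ≤ N) (h : NonsingForm (homogeneousComponent N p))
    (x : Xbar N p) (hx : x ∉ nsOpen (hform N p)) :
    ∃ y : Spec (CommRingCat.of (MvPolynomial (Fin (n + 1)) A ⧸ Ideal.span {p})), aff hp y = x ∧
      ∀ j, Ideal.Quotient.mk (Ideal.span {p}) (pderiv j p) ∈ y.asIdeal := by
  have h1 : x ∈ (aff hp).opensRange := by
    rw [opensRange_aff]
    by_contra h2
    refine hx (mem_nsOpen_of_infinity (hform N p) ?_ x h2)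
    rw [hform, killLast_homog]
    exact h
  obtain ⟨y, rfl⟩ := h1
  refine ⟨y, rfl, fun j => ?_⟩
  by_contra h3
  exact hx (aff_mem_nsOpen hp y (mem_affNs.mpr ⟨j, h3⟩))

end ClosureSmooth

end Groth.Agent.Vancyc.H517.Homog
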