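import Mathlib.RingTheory.Smooth.StandardSmooth
import Mathlib.Algebra.MvPolynomial.PDeriv

/-!
# Jacobian criterion for one equation, with relative dimension

* `stdSmooth_hyp`: the localization of `A[x_1, …, x_{n+1}]/(F)` at `∂_j F` is standard smooth of relative dimension `n`.
-/

set_option autoImplicit false

namespace Groth.Agent.Vancyc.H517.JacDim

open MvPolynomial Algebra

variable {A : Type*} [CommRing A] {n : ℕ}

theorem stdSmooth_hyp (F : MvPolynomial (Fin (n + 1)) A) (j : Fin (n + 1))
    (C : Type*) [CommRing C] [Algebra (MvPolynomial (Fin (n + 1)) A ⧸ Ideal.span {F}) C] [Algebra A C]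
    [IsScalarTower A (MvPolynomial (Fin (n + 1)) A ⧸ Ideal.span {F}) C]
    [IsLocalization.Away (Ideal.Quotient.mk (Ideal.span {F}) (pderiv j F)) C] :
    IsStandardSmoothOfRelativeDimension n A C := by
  classical
  have hr : Ideal.span {F} = Ideal.span (Set.range (fun _ : Unit => F)) := by
    rw [Set.range_const]
  let P0 : PreSubmersivePresentation A (MvPolynomial (Fin (n + 1)) A ⧸ Ideal.span (Set.range (fun _ : Unit => F)))
      (Fin (n + 1)) Unit :=
    PreSubmersivePresentation.naive (v := fun _ : Unit => F) (fun _ => j) (fun _ _ _ => rfl)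
  let P : PreSubmersivePresentation A (MvPolynomial (Fin (n + 1)) A ⧸ Ideal.span {F}) (Fin (n + 1)) Unit :=
    P0.ofAlgEquiv (Ideal.quotientEquivAlgOfEq A hr.symm)
  have hP : P.jacobian = Ideal.Quotient.mk (Ideal.span {F}) (pderiv j F) := by
    rw [PreSubmersivePresentation.jacobian_ofAlgEquiv, PreSubmersivePresentation.jacobian_eq_jacobiMatrix_det]
    have h1 : P0.jacobiMatrix = Matrix.of fun _ _ => pderiv j F := by
      ext1 a b
      exact PreSubmersivePresentation.jacobiMatrix_naive _ _ _ _ a b
    rw [h1, Matrix.det_unique]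
    rfl
  let Q := PreSubmersivePresentation.localizationAway C (Ideal.Quotient.mk (Ideal.span {F}) (pderiv j F))
  let S : SubmersivePresentation A C (Unit ⊕ Fin (n + 1)) (Unit ⊕ Unit) :=
    { Q.comp P with
      jacobian_isUnit := by
        rw [PreSubmersivePresentation.comp_jacobian_eq_jacobian_smul_jacobian, hP,
          PreSubmersivePresentation.localizationAway_jacobian, Algebra.smul_def]
        have := IsLocalization.Away.algebraMap_isUnit (S := C) (Ideal.Quotient.mk (Ideal.span {F}) (pderiv j F))
        exact this.mul this }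
  exact S.isStandardSmoothOfRelativeDimension (by
    rw [Presentation.dimension]
    rw [Nat.card_sum, Nat.card_sum, Nat.card_eq_fintype_card, Nat.card_eq_fintype_card, Fintype.card_unit,
      Fintype.card_fin]
    omega)

end Groth.Agent.Vancyc.H517.JacDim
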