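import Groth.Agent.Lefpen.H713.HypProj
import Groth.Agent.Vancyc.H517.JacDim
import Mathlib.RingTheory.MvPolynomial.EulerIdentity

/-!
# Jacobian criterion for projective hypersurfaces over a ring

For `q : CohB1.polyGrading (n + 1) A d`, `Hyp q ⊂ P^{n+1}_A`:

* `nsOpen q : (Hyp q).Opens`: the union of the loci `∂_j (dehom_i q) ≠ 0` in the charts;
* `smooth_nsOpen`: `nsOpen q ⟶ Spec A` is smooth of relative dimension `n`;
* `mem_nsOpen`: membership in terms of a chart and the partial derivatives of `dehom_i q`;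
* `mem_nsOpen_of_pderiv`: membership in terms of the partial derivatives of the form `q` itself (Euler's formula);
* `NonsingForm q`: every variable is in the radical of the ideal of `q` and its partial derivatives;
  `NonsingForm.nsOpen_eq_top`, `NonsingForm.smooth`, `NonsingForm.map`.
-/

set_option autoImplicit false

open CategoryTheory AlgebraicGeometry MvPolynomial HomogeneousLocalization
open Groth.Agent.Sga5.ProjChart Groth.Agent.Sga5.ProjSmooth
open Groth.Agent.Lefpen.H713.HypProj

universe u

namespace Groth.Agent.Vancyc.H517.HypJac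

/-- local-at-source properties on an open subscheme, from open immersions covering it -/
theorem of_forall_exists {P : MorphismProperty Scheme.{u}} [IsZariskiLocalAtSource P] {X Y : Scheme.{u}} (f : X ⟶ Y)
    (U : X.Opens) (h : ∀ x ∈ U, ∃ (V : Scheme.{u}) (i : V ⟶ X) (_ : IsOpenImmersion i),
      i.opensRange ≤ U ∧ x ∈ i.opensRange ∧ P (i ≫ f)) :
    P (U.ι ≫ f) := by
  choose V i hi hU hx hP using fun x : U => h x.1 x.2
  have := hi
  have hr : ∀ x, Set.range (i x) ⊆ Set.range U.ι := fun x => by
    rintro _ ⟨y, rfl⟩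
    rw [Scheme.Opens.range_ι]
    exact hU x ⟨y, rfl⟩
  let 𝒰 : (U : Scheme.{u}).OpenCover :=
    Scheme.Cover.mkOfCovers U V (fun x => IsOpenImmersion.lift U.ι (i x) (hr x)) (fun x => by
      obtain ⟨y, hy⟩ := hx x
      refine ⟨x, y, ?_⟩
      apply U.ι.isOpenEmbedding.injective
      rw [← Scheme.Hom.comp_apply, IsOpenImmersion.lift_fac]
      exact hy) (fun x => by
        have h1 : IsOpenImmersion (IsOpenImmersion.lift U.ι (i x) (hr x) ≫ U.ι) := by
          rw [IsOpenImmersion.lift_fac]; exact hi x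
        exact IsOpenImmersion.of_comp _ U.ι)
  refine IsZariskiLocalAtSource.of_openCover (P := P) 𝒰 (fun x => ?_)
  change P (IsOpenImmersion.lift U.ι (i x) (hr x) ≫ U.ι ≫ f)
  rw [IsOpenImmersion.lift_fac_assoc]
  exact hP x

section Affine

theorem range_away {B : Type u} [CommRing B] (f : B) :
    Set.range (Spec.map (CommRingCat.ofHom (algebraMap B (Localization.Away f)))) =
      {z : Spec (CommRingCat.of B) | f ∉ z.asIdeal} :=
  PrimeSpectrum.localization_away_comap_range _ f

variable {A : Type u} [CommRing A] {n : ℕ} (F : MvPolynomial (Fin (n + 1)) A)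

/-- the class of the partial derivative -/
noncomputable def pd (j : Fin (n + 1)) : MvPolynomial (Fin (n + 1)) A ⧸ Ideal.span {F} :=
  Ideal.Quotient.mk _ (pderiv j F)

/-- the locus where a partial derivative does not vanish, in the affine hypersurface -/
noncomputable def affNs : (Spec (CommRingCat.of (MvPolynomial (Fin (n + 1)) A ⧸ Ideal.span {F}))).Opens :=
  ⨆ j : Fin (n + 1), PrimeSpectrum.basicOpen (pd F j)

theorem mem_affNs {F : MvPolynomial (Fin (n + 1)) A}
    {y : Spec (CommRingCat.of (MvPolynomial (Fin (n + 1)) A ⧸ Ideal.span {F}))} :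
    y ∈ affNs F ↔ ∃ j, pd F j ∉ y.asIdeal := by
  rw [affNs]
  exact TopologicalSpace.Opens.mem_iSup

/-- the structure morphism of the affine hypersurface -/
noncomputable abbrev affToSpec : Spec (CommRingCat.of (MvPolynomial (Fin (n + 1)) A ⧸ Ideal.span {F})) ⟶
    Spec (CommRingCat.of A) :=
  Spec.map (CommRingCat.ofHom (algebraMap A _))

theorem smooth_affNs : SmoothOfRelativeDimension n ((affNs F).ι ≫ affToSpec F) := by
  apply of_forall_exists
  intro y hy
  obtain ⟨j, hj⟩ := mem_affNs.mp hy
  refine ⟨Spec (CommRingCat.of (Localization.Away (pd F j))),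
    Spec.map (CommRingCat.ofHom (algebraMap _ (Localization.Away (pd F j)))), inferInstance, ?_, ?_, ?_⟩
  · intro z hz
    rw [mem_affNs]
    exact ⟨j, (Set.ext_iff.mp (range_away (pd F j)) z).mp hz⟩
  · exact (Set.ext_iff.mp (range_away (pd F j)) y).mpr hj
  · rw [← Spec.map_comp]
    rw [HasRingHomProperty.Spec_iff (P := @SmoothOfRelativeDimension n)]
    have h : (algebraMap A (Localization.Away (pd F j))).IsStandardSmoothOfRelativeDimension n := by
      rw [RingHom.isStandardSmoothOfRelativeDimension_algebraMap]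
      have : IsLocalization.Away (Ideal.Quotient.mk (Ideal.span {F}) (pderiv j F)) (Localization.Away (pd F j)) :=
        inferInstanceAs (IsLocalization.Away (pd F j) (Localization.Away (pd F j)))
      exact JacDim.stdSmooth_hyp F j _
    have h2 := RingHom.locally_of RingHom.isStandardSmoothOfRelativeDimension_respectsIso _ h
    exact h2

end Affine

variable {A : Type u} [CommRing A] {n d : ℕ} (q : ↥(CohB1.polyGrading (n + 1) A d))

/-- the union of the loci `∂_j (dehom_i q) ≠ 0` -/
noncomputable def nsOpen : (Hyp q).Opens :=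
  ⨆ i : Fin (n + 2), (chartH q i) ''ᵁ (affNs (dehom (n + 1) A i q.1))

theorem smooth_nsOpen : SmoothOfRelativeDimension n ((nsOpen q).ι ≫ toSpec q) := by
  apply of_forall_exists
  intro x hx
  obtain ⟨i, hi⟩ := TopologicalSpace.Opens.mem_iSup.mp hx
  refine ⟨affNs (dehom (n + 1) A i q.1), (affNs (dehom (n + 1) A i q.1)).ι ≫ chartH q i, inferInstance, ?_, ?_, ?_⟩
  · rw [Scheme.Hom.opensRange_comp, Scheme.Opens.opensRange_ι]
    exact le_iSup (fun i : Fin (n + 2) => (chartH q i) ''ᵁ (affNs (dehom (n + 1) A i q.1))) i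
  · rw [Scheme.Hom.opensRange_comp, Scheme.Opens.opensRange_ι]
    exact hi
  · rw [Category.assoc, chartH_toSpec]
    exact smooth_affNs _

theorem chartH_mem_nsOpen (i : Fin (n + 2)) (y : Spec (CommRingCat.of (ChR q i)))
    (h : y ∈ affNs (dehom (n + 1) A i q.1)) : chartH q i y ∈ nsOpen q := by
  refine TopologicalSpace.Opens.mem_iSup.mpr ⟨i, ?_⟩
  exact ⟨y, h, rfl⟩

section Alg

variable {A : Type u} [CommRing A] {n d : ℕ}

/-- Partial derivatives of the dehomogenized polynomial. -/
theorem pderiv_dehom (i : Fin (n + 1)) (l : Fin n) (p : MvPolynomial (Fin (n + 1)) A) :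
    pderiv l (dehom n A i p) = dehom n A i (pderiv (i.succAbove l) p) := by
  induction p using MvPolynomial.induction_on with
  | C a => simp
  | add p q hp hq => simp [hp, hq]
  | mul_X p j hp =>
    rw [map_mul, Derivation.leibniz, Derivation.leibniz, hp, smul_eq_mul, smul_eq_mul, smul_eq_mul, smul_eq_mul,
      map_add, map_mul, map_mul]
    congr 2
    obtain rfl | ⟨j, rfl⟩ := Fin.eq_self_or_eq_succAbove i j
    · rw [dehom_X_self, pderiv_X_of_ne (Fin.succAbove_ne _ _).symm]
      simp
    · rw [dehom_X, pderiv_X, pderiv_X]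
      by_cases h : j = l
      · subst h; simp
      · rw [Pi.single_eq_of_ne h, Pi.single_eq_of_ne (fun h' => h (Fin.succAbove_right_injective h'))]
        simp

/-- the ideal of a polynomial and its partial derivatives -/
noncomputable def jacI {σ : Type*} (p : MvPolynomial σ A) : Ideal (MvPolynomial σ A) :=
  Ideal.span ({p} ∪ Set.range fun i => pderiv i p)

theorem self_mem_jacI {σ : Type*} (p : MvPolynomial σ A) : p ∈ jacI p := Ideal.subset_span (Or.inl rfl)

theorem pderiv_mem_jacI {σ : Type*} (p : MvPolynomial σ A) (i : σ) : pderiv i p ∈ jacI p :=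
  Ideal.subset_span (Or.inr ⟨i, rfl⟩)

theorem dehom_pderiv_mem {q : MvPolynomial (Fin (n + 1)) A} (hq : q.IsHomogeneous d) (i : Fin (n + 1))
    (l : Fin (n + 1)) : dehom n A i (pderiv l q) ∈ jacI (dehom n A i q) := by
  have hl : ∀ l : Fin n, dehom n A i (pderiv (i.succAbove l) q) ∈ jacI (dehom n A i q) := fun l => by
    rw [← pderiv_dehom]
    exact pderiv_mem_jacI _ _
  obtain rfl | ⟨l, rfl⟩ := Fin.eq_self_or_eq_succAbove i l
  · have hE : ∑ i, X i * pderiv i q = d • q := MvPolynomial.IsHomogeneous.sum_X_mul_pderiv hq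
    have hE2 := congrArg (dehom n A l) hE
    rw [map_sum, Fin.sum_univ_succAbove _ l] at hE2
    simp only [map_mul, dehom_X_self, dehom_X, one_mul] at hE2
    have h5 : dehom n A l (pderiv l q) =
        dehom n A l (d • q) - ∑ j : Fin n, X j * dehom n A l (pderiv (l.succAbove j) q) := by
      rw [← hE2]; ring
    rw [h5]
    refine Ideal.sub_mem _ ?_ (Ideal.sum_mem _ fun l _ => Ideal.mul_mem_left _ _ (hl l))
    rw [map_nsmul, nsmul_eq_mul]
    exact Ideal.mul_mem_left _ _ (self_mem_jacI _)
  · exact hl l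

/-- The ideal of a form and its partial derivatives on a chart. -/
theorem dehom_mem_jacI {q : MvPolynomial (Fin (n + 1)) A} (hq : q.IsHomogeneous d) (i : Fin (n + 1))
    {p : MvPolynomial (Fin (n + 1)) A} (hp : p ∈ jacI q) : dehom n A i p ∈ jacI (dehom n A i q) := by
  have hle : jacI q ≤ (jacI (dehom n A i q)).comap (dehom n A i) := by
    rw [jacI, Ideal.span_le]
    rintro _ (rfl | ⟨l, rfl⟩)
    · exact self_mem_jacI _
    · exact dehom_pderiv_mem hq i l
  exact hle hp

end Alg

section Mem

variable {A : Type u} [CommRing A] {n d : ℕ}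

theorem jacI_le_comap_of_notMem_affNs {F : MvPolynomial (Fin (n + 1)) A}
    {y : Spec (CommRingCat.of (MvPolynomial (Fin (n + 1)) A ⧸ Ideal.span {F}))} (hy : y ∉ affNs F) :
    jacI F ≤ y.asIdeal.comap (Ideal.Quotient.mk (Ideal.span {F})) := by
  rw [jacI, Ideal.span_le]
  rintro _ (rfl | ⟨l, rfl⟩)
  · change Ideal.Quotient.mk _ _ ∈ y.asIdeal
    rw [Ideal.Quotient.eq_zero_iff_mem.mpr (Ideal.mem_span_singleton_self _)]
    exact zero_mem _
  · by_contra h
    exact hy (mem_affNs.mpr ⟨l, h⟩)

variable (q : ↥(CohB1.polyGrading (n + 1) A d))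

/-- a point of a chart at which some partial derivative of the form does not vanish is in `nsOpen` -/
theorem chartH_mem_nsOpen_of_pderiv (i : Fin (n + 2)) (y : Spec (CommRingCat.of (ChR q i))) (l : Fin (n + 2))
    (h : Ideal.Quotient.mk (Ideal.span {dehom (n + 1) A i q.1}) (dehom (n + 1) A i (pderiv l q.1)) ∉ y.asIdeal) :
    chartH q i y ∈ nsOpen q := by
  apply chartH_mem_nsOpen
  by_contra hy
  exact h (jacI_le_comap_of_notMem_affNs hy (dehom_pderiv_mem (d := d) q.2 i l))

/-- if a function in the ideal of `q` and its derivatives does not vanish at a point of a chart, the point is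
in `nsOpen` -/
theorem chartH_mem_nsOpen_of_jacI (i : Fin (n + 2)) (y : Spec (CommRingCat.of (ChR q i)))
    (p : MvPolynomial (Fin (n + 2)) A) (hp : p ∈ jacI q.1)
    (h : Ideal.Quotient.mk (Ideal.span {dehom (n + 1) A i q.1}) (dehom (n + 1) A i p) ∉ y.asIdeal) :
    chartH q i y ∈ nsOpen q := by
  apply chartH_mem_nsOpen
  by_contra hy
  exact h (jacI_le_comap_of_notMem_affNs hy (dehom_mem_jacI (d := d) q.2 i hp))

/-- A form is nonsingular if every variable has a power in the ideal of the form and its partial derivatives. -/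
def NonsingForm {σ : Type*} (p : MvPolynomial σ A) : Prop :=
  ∀ i : σ, ∃ m : ℕ, (X i : MvPolynomial σ A) ^ m ∈ jacI p

variable {q}

theorem NonsingForm.nsOpen_eq_top (h : NonsingForm q.1) : nsOpen q = ⊤ := by
  rw [eq_top_iff]
  intro x _
  obtain ⟨i, y, rfl⟩ := exists_mem_chartH q x
  obtain ⟨m, hm⟩ := h i
  refine chartH_mem_nsOpen_of_jacI q i y _ hm ?_
  rw [map_pow, dehom_X_self, one_pow, map_one]
  exact (Ideal.ne_top_iff_one _).mp y.2.ne_top

theorem NonsingForm.smooth (h : NonsingForm q.1) : SmoothOfRelativeDimension n (toSpec q) := by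
  have h1 := smooth_nsOpen q
  rw [h.nsOpen_eq_top] at h1
  have h2 : toSpec q = (Scheme.topIso (Hyp q)).inv ≫ (⊤ : (Hyp q).Opens).ι ≫ toSpec q := by
    rw [← Scheme.topIso_hom, Iso.inv_hom_id_assoc]
  rw [h2]
  exact IsZariskiLocalAtSource.comp (P := @SmoothOfRelativeDimension n) h1 _

theorem map_jacI {B : Type*} [CommRing B] (φ : A →+* B) {σ : Type*} (p : MvPolynomial σ A)
    {r : MvPolynomial σ A} (hr : r ∈ jacI p) : MvPolynomial.map φ r ∈ jacI (MvPolynomial.map φ p) := by
  have h1 : jacI p ≤ (jacI (MvPolynomial.map φ p)).comap (MvPolynomial.map φ) := by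
    rw [jacI, Ideal.span_le]
    rintro _ (rfl | ⟨l, rfl⟩)
    · exact self_mem_jacI _
    · change MvPolynomial.map φ (pderiv l p) ∈ jacI (MvPolynomial.map φ p)
      rw [← pderiv_map]
      exact pderiv_mem_jacI _ _
  exact h1 hr

theorem NonsingForm.map {B : Type*} [CommRing B] (φ : A →+* B) {σ : Type*} {p : MvPolynomial σ A}
    (h : NonsingForm p) : NonsingForm (MvPolynomial.map φ p) := fun i => by
  obtain ⟨m, hm⟩ := h i
  refine ⟨m, ?_⟩
  have := map_jacI φ p hm
  rwa [map_pow, map_X] at this

end Mem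

end Groth.Agent.Vancyc.H517.HypJac
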